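import Cfsg.Agent.Lib.Transfer.Cores
import Cfsg.Agent.Lib.Grp.ComponentSplit
import Cfsg.Agent.Lib.Grp.Components
import Cfsg.Agent.S1325

/-!
The generalised Fitting subgroup in the presence of a self-centralising normal simple subgroup
(the lemma of `Fus.ThreeA.M24`, repeated here to keep the imports small).
-/

set_option autoImplicit false
set_option linter.style.haveILetI false

namespace Cfsg.Agent.Spor.ONan

/-- A normal simple subgroup with trivial centraliser is the generalised Fitting subgroup. -/
theorem gfitting_eq_of_simple {X : Type*} [Group X] [Finite X] (N : Subgroup X) [N.Normal] (hs : IsSimpleGroup N)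
    (hna : ¬ IsMulCommutative N) (hC : Subgroup.centralizer (N : Set X) = ⊥) :
    Cfsg.generalizedFittingSubgroup X = N := by
  haveI := hs
  haveI := Transfer.fittingSubgroup_normal' X
  haveI := Grp.ComponentSplit.layer_normal (G := X)
  have hnil : Group.IsNilpotent ↥(Cfsg.fittingSubgroup X) := Transfer.fittingSubgroup_isNilpotent
  have hF : Cfsg.fittingSubgroup X = ⊥ := by
    rw [eq_bot_iff, ← hC, ← Subgroup.commutator_eq_bot_iff_le_centralizer, eq_bot_iff]
    refine (Subgroup.commutator_le_inf _ _).trans (le_of_eq ?_)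
    rcases ((Subgroup.normal_inf_normal (Cfsg.fittingSubgroup X) N).subgroupOf N).eq_bot_or_eq_top with e | e
    · rw [Subgroup.subgroupOf_eq_bot, disjoint_iff, inf_assoc, inf_idem] at e
      exact e
    · exfalso
      have hle : N ≤ Cfsg.fittingSubgroup X := (Subgroup.subgroupOf_eq_top.mp e).trans inf_le_left
      haveI := hnil
      haveI : Group.IsNilpotent N := Group.nilpotent_of_mulEquiv (Subgroup.subgroupOfEquivOfLe hle)
      haveI : Group.IsSolvable N := inferInstance
      exact hna ⟨⟨IsSimpleGroup.comm_iff_isSolvable.mpr inferInstance⟩⟩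
  have hle : Cfsg.generalizedFittingSubgroup X ≤ N :=
    S1325.result N (hF ▸ bot_le) (hC ▸ bot_le)
  haveI : (Cfsg.generalizedFittingSubgroup X).Normal := Subgroup.sup_normal _ _
  rcases ((inferInstance : (Cfsg.generalizedFittingSubgroup X).Normal).subgroupOf N).eq_bot_or_eq_top with e | e
  · exfalso
    rw [Subgroup.subgroupOf_eq_bot, disjoint_iff, inf_eq_left.mpr hle] at e
    have := Grp.centralizer_gfitting_le (G := X)
    rw [e] at this
    have hN : N ≤ ⊥ := le_trans (fun y _ => Subgroup.mem_centralizer_iff.mpr fun z hz => by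
      rw [SetLike.mem_coe, Subgroup.mem_bot] at hz
      subst hz
      simp) this
    exact hna ⟨⟨fun p q => Subtype.ext (by
      rw [Subgroup.mem_bot.mp (hN (p * q).2), Subgroup.mem_bot.mp (hN (q * p).2)])⟩⟩
  · exact le_antisymm hle (Subgroup.subgroupOf_eq_top.mp e)

end Cfsg.Agent.Spor.ONan
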