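import Mathlib

/-!
Doubly transitive groups whose point stabiliser has an elementary abelian normal subgroup that is
not semiregular on the other points: trivial intersections and two point stabilisers.
-/

set_option autoImplicit false
set_option linter.unusedSectionVars false
set_option linter.style.haveILetI false

namespace Cfsg.Agent.Spor.ONan

/-- The standing hypothesis: a conjugate family of non-semiregular elementary abelian subgroups
of the point stabilisers. -/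
structure Hyp (G X : Type*) [Group G] [MulAction G X] where
  N : X → Subgroup G
  p : ℕ
  hp : p.Prime
  two : ∀ {a b c d : X}, a ≠ b → c ≠ d → ∃ g : G, g • a = c ∧ g • b = d
  fix : ∀ {a : X} {n : G}, n ∈ N a → n • a = a
  comm : ∀ {a : X} {n m : G}, n ∈ N a → m ∈ N a → n * m = m * n
  pow : ∀ {a : X} {n : G}, n ∈ N a → n ^ p = 1
  conj : ∀ (g : G) {a : X} {n : G}, n ∈ N a → g * n * g⁻¹ ∈ N (g • a)
  move : ∀ {a b : X}, a ≠ b → ∃ n ∈ N a, n ≠ 1 ∧ n • b = b

namespace Hyp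

/-- Conjugation identifies subgroups of equal cardinality. -/
theorem card_eq_of_conj {G : Type*} [Group G] (g : G) (S T : Subgroup G) (h : ∀ x, g * x * g⁻¹ ∈ T ↔ x ∈ S) :
    Nat.card S = Nat.card T := by
  refine Nat.card_congr ((MulAut.conj g).toEquiv.subtypeEquiv fun x => ?_)
  simpa using (h x).symm

theorem eq_one_of_fix_all {G X : Type*} [Group G] [MulAction G X] [FaithfulSMul G X] {g : G} (h : ∀ x : X, g • x = x) : g = 1 :=
  FaithfulSMul.eq_of_smul_eq_smul fun x : X => by rw [h x, one_smul]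


variable {G X : Type*} [Group G] [Finite G] [MulAction G X] [FaithfulSMul G X] [Finite X]
  (d : Hyp G X)

theorem conj_iff (g : G) (a : X) (n : G) : g * n * g⁻¹ ∈ d.N (g • a) ↔ n ∈ d.N a := by
  refine ⟨fun h => ?_, d.conj g⟩
  have := d.conj g⁻¹ h
  rwa [inv_smul_smul, inv_inv, show g⁻¹ * (g * n * g⁻¹) * g = n by group] at this

theorem conj_self {g : G} {a : X} {n : G} (hg : g • a = a) (hn : n ∈ d.N a) :
    g * n * g⁻¹ ∈ d.N a := by
  have := d.conj g hn
  rwa [hg] at this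

theorem card_N (a b : X) : Nat.card (d.N a) = Nat.card (d.N b) := by
  rcases eq_or_ne a b with rfl | hab
  · rfl
  · obtain ⟨g, hg, -⟩ := d.two hab (Ne.symm hab)
    refine card_eq_of_conj g _ _ fun x => ?_
    rw [← hg]
    exact d.conj_iff g a x

theorem isPGroup (a : X) : IsPGroup d.p (d.N a) := fun x =>
  ⟨1, Subtype.ext (by simpa using d.pow x.2)⟩

/-- The elements of `N a` fixing `b`. -/
def A (a b : X) : Subgroup G := d.N a ⊓ MulAction.stabilizer G b

theorem mem_A {a b : X} {n : G} : n ∈ d.A a b ↔ n ∈ d.N a ∧ n • b = b := Iff.rfl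

theorem A_le (a b : X) : d.A a b ≤ d.N a := inf_le_left

theorem conj_A (g : G) (a b : X) (x : G) :
    g * x * g⁻¹ ∈ d.A (g • a) (g • b) ↔ x ∈ d.A a b := by
  rw [mem_A, mem_A, d.conj_iff, mul_smul, mul_smul, inv_smul_smul, smul_left_cancel_iff]

theorem card_A {a b c e : X} (hab : a ≠ b) (hce : c ≠ e) :
    Nat.card (d.A a b) = Nat.card (d.A c e) := by
  obtain ⟨g, hg, hg'⟩ := d.two hab hce
  refine card_eq_of_conj g _ _ fun x => ?_
  rw [← hg, ← hg']
  exact d.conj_A g a b x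

theorem exists_ne_one_A {a b : X} (hab : a ≠ b) : ∃ n ∈ d.A a b, n ≠ 1 := by
  obtain ⟨n, hn, h1, h2⟩ := d.move hab
  exact ⟨n, ⟨hn, h2⟩, h1⟩

/-- Distinct members of the family meet trivially. -/
theorem ti {a b : X} (hab : a ≠ b) {x : G} (ha : x ∈ d.N a) (hb : x ∈ d.N b) : x = 1 := by
  have hI : ∀ {a b c e : X}, a ≠ b → c ≠ e →
      Nat.card ↥(d.N a ⊓ d.N b) = Nat.card ↥(d.N c ⊓ d.N e) := by
    intro a b c e hab hce
    obtain ⟨g, hg, hg'⟩ := d.two hab hce
    refine card_eq_of_conj g _ _ fun y => ?_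
    rw [← hg, ← hg', Subgroup.mem_inf, Subgroup.mem_inf, d.conj_iff, d.conj_iff]
  have key : ∀ {a b c e : X}, a ≠ b → c ≠ e → d.N a ⊓ d.N b ≤ d.N c → d.N a ⊓ d.N b ≤ d.N e →
      d.N a ⊓ d.N b = d.N c ⊓ d.N e := by
    intro a b c e hab hce h1 h2
    exact Subgroup.eq_of_le_of_card_ge (K := d.N c ⊓ d.N e) (le_inf h1 h2) (hI hab hce).ge
  have inv : ∀ {a e : X} {n : G}, n ∈ d.N a → d.N a ⊓ d.N e ≤ d.N (n • e) := by
    intro a e n hn y hy
    obtain ⟨hy1, hy2⟩ := Subgroup.mem_inf.mp hy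
    have h := d.conj n hy2
    rwa [d.comm hn hy1, mul_inv_cancel_right] at h
  refine eq_one_of_fix_all (X := X) fun e => ?_
  by_cases he : d.N a ⊓ d.N b ≤ d.N e
  · exact d.fix (he ⟨ha, hb⟩)
  have hea : a ≠ e := fun h => he (h ▸ inf_le_left)
  have heb : b ≠ e := fun h => he (h ▸ inf_le_right)
  by_contra hxe
  have h1 := key hea (Ne.symm hxe) inf_le_right (inv ha)
  have h2 := key heb (Ne.symm hxe) inf_le_right (inv hb)
  have h3 : d.N a ⊓ d.N e ≤ d.N b := by
    rw [h1, ← h2]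
    exact inf_le_left
  exact he ((key hea hab inf_le_left h3).symm.le.trans inf_le_right)

/-- A non-trivial element of `N a` determines `a`, hence so does its centraliser. -/
theorem fix_of_commute {a : X} {n g : G} (hn : n ∈ d.N a) (h1 : n ≠ 1) (hg : g * n = n * g) :
    g • a = a := by
  by_contra h
  refine h1 (d.ti (Ne.symm h) hn ?_)
  have h2 := d.conj g hn
  rwa [hg, mul_inv_cancel_right] at h2

theorem A_commute {a b : X} (hab : a ≠ b) {n m : G} (hn : n ∈ d.A a b) (hm : m ∈ d.A b a) :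
    m * n = n * m := by
  have h1 : m * n * m⁻¹ * n⁻¹ ∈ d.N a :=
    mul_mem (d.conj_self hm.2 hn.1) (inv_mem hn.1)
  have h2 : m * n * m⁻¹ * n⁻¹ ∈ d.N b := by
    have := mul_mem hm.1 (d.conj_self hn.2 (inv_mem hm.1))
    simpa [mul_assoc] using this
  have := d.ti hab h1 h2
  rw [mul_inv_eq_one, mul_inv_eq_iff_eq_mul] at this
  exact this

theorem mem_A_of_commute {a b : X} {n m : G} (hn : n ∈ d.N a)
    (hm : m ∈ d.N b) (hm1 : m ≠ 1) (h : n * m = m * n) : n ∈ d.A a b :=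
  ⟨hn, d.fix_of_commute hm hm1 h⟩

/-- The map `n ↦ x⁻¹ · m x m⁻¹` is injective on `A b a` for `x` in `N a` outside `A a b`. -/
theorem comm_inj {a b : X} {m m' x : G} (hm : m ∈ d.A b a) (hm' : m' ∈ d.A b a) (hx : x ∈ d.N a)
    (hxb : x • b ≠ b) (h : x⁻¹ * (m * x * m⁻¹) = x⁻¹ * (m' * x * m'⁻¹)) : m = m' := by
  by_contra hne
  have h' : m * x * m⁻¹ = m' * x * m'⁻¹ := mul_left_cancel h
  refine hxb (d.mem_A_of_commute hx (mul_mem (inv_mem hm'.1) hm.1) ?_ ?_).2
  · intro e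
    exact hne (inv_mul_eq_one.mp e).symm
  · have h2 := congrArg (fun z => m'⁻¹ * z * m) h'
    simp only [mul_assoc, inv_mul_cancel_left, inv_mul_cancel, mul_one] at h2
    rw [mul_assoc, h2]

/-- Elements of `N a` fixing two further points. -/
def F2 (a b c : X) : Subgroup G := d.A a b ⊓ d.A a c

theorem mem_F2 {a b c : X} {n : G} :
    n ∈ d.F2 a b c ↔ n ∈ d.N a ∧ n • b = b ∧ n • c = c :=
  ⟨fun h => ⟨h.1.1, h.1.2, h.2.2⟩, fun h => ⟨⟨h.1, h.2.1⟩, ⟨h.1, h.2.2⟩⟩⟩

theorem F2_comm (a b c : X) : d.F2 a b c = d.F2 a c b := inf_comm _ _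

theorem card_F2_le {a b c : X} (hab : a ≠ b) (hac : a ≠ c) :
    Nat.card (d.F2 b a c) ≤ Nat.card (d.F2 a b c) := by
  classical
  by_cases hle : d.A a c ≤ d.A a b
  · rw [show d.F2 a b c = d.A a c from inf_eq_right.mpr hle, d.card_A hac hab.symm]
    exact Subgroup.card_le_of_le inf_le_left
  set A' := d.A a c with hA'
  set U := d.F2 a b c with hU
  set M := d.F2 b a c with hM
  haveI : Fact d.p.Prime := ⟨d.hp⟩
  have hMA : ∀ m ∈ M, ∀ x ∈ A', m * x * m⁻¹ ∈ A' := by
    intro m hm x hx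
    obtain ⟨-, hma, hmc⟩ := d.mem_F2.mp hm
    have := (d.conj_A m a c x).mpr hx
    rwa [hma, hmc] at this
  have hMU : ∀ m ∈ M, ∀ x ∈ U, m * x * m⁻¹ = x := by
    intro m hm x hx
    rw [d.A_commute hab hx.1 hm.1, mul_inv_cancel_right]
  let U' : Subgroup A' := U.subgroupOf A'
  let act : M → ↥A' ⧸ U' → ↥A' ⧸ U' := fun m =>
    Quotient.map' (fun x => ⟨m.1 * x.1 * m.1⁻¹, hMA _ m.2 _ x.2⟩) (by
      intro x y hxy
      rw [QuotientGroup.leftRel_apply] at hxy ⊢
      rw [Subgroup.mem_subgroupOf] at hxy ⊢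
      have e : ((m.1 * x.1 * m.1⁻¹)⁻¹ * (m.1 * y.1 * m.1⁻¹)) = m.1 * (x.1⁻¹ * y.1) * m.1⁻¹ := by
        group
      simp only [Subgroup.coe_mul, Subgroup.coe_inv] at hxy ⊢
      rw [e, hMU _ m.2 _ hxy]
      exact hxy)
  letI : MulAction M (↥A' ⧸ U') :=
    { smul := act
      one_smul := fun q => by
        induction q using QuotientGroup.induction_on with | _ x =>
        exact congrArg QuotientGroup.mk (Subtype.ext (show (1 : G) * x.1 * (1 : G)⁻¹ = x.1 by simp))
      mul_smul := fun m m' q => by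
        induction q using QuotientGroup.induction_on with | _ x =>
        exact congrArg QuotientGroup.mk (Subtype.ext
          (show (m.1 * m'.1) * x.1 * (m.1 * m'.1)⁻¹ = m.1 * (m'.1 * x.1 * m'.1⁻¹) * m.1⁻¹ by group)) }
  have hP : IsPGroup d.p M := (d.isPGroup b).to_le (inf_le_left.trans (d.A_le b a))
  have hdvd : d.p ∣ Nat.card (↥A' ⧸ U') := by
    obtain ⟨k, hk⟩ := ((d.isPGroup a).to_le (d.A_le a c)).index U'
    change d.p ∣ U'.index
    rcases Nat.eq_zero_or_pos k with rfl | hk0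
    · exfalso
      rw [pow_zero, Subgroup.index_eq_one, Subgroup.subgroupOf_eq_top] at hk
      exact hle (hk.trans inf_le_left)
    · rw [hk]
      exact dvd_pow_self _ hk0.ne'
  have h1 : (QuotientGroup.mk (1 : A') : ↥A' ⧸ U') ∈ MulAction.fixedPoints M (↥A' ⧸ U') :=
    fun m => congrArg QuotientGroup.mk (Subtype.ext (show m.1 * (1 : G) * m.1⁻¹ = 1 by simp))
  obtain ⟨q, hq, hne⟩ := hP.exists_fixed_point_of_prime_dvd_card_of_fixed_point _ hdvd h1
  obtain ⟨x, rfl⟩ := QuotientGroup.mk_surjective q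
  have hxU : x.1 ∉ U := fun h => hne (QuotientGroup.eq.mpr (by
    rw [inv_one, one_mul]
    exact h))
  have hxb : x.1 • b ≠ b := fun h => hxU ⟨⟨x.2.1, h⟩, x.2⟩
  have hfx : ∀ m ∈ M, x.1⁻¹ * (m * x.1 * m⁻¹) ∈ U := fun m hm => by
    have := QuotientGroup.eq.mp (hq ⟨m, hm⟩).symm
    rwa [Subgroup.mem_subgroupOf] at this
  exact Nat.card_le_card_of_injective (fun m : M => (⟨_, hfx m.1 m.2⟩ : U)) fun m m' e =>
    Subtype.ext (d.comm_inj m.2.1 m'.2.1 x.2.1 hxb (congrArg Subtype.val e))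

theorem card_F2_swap {a b c : X} (hab : a ≠ b) (hac : a ≠ c) (hbc : b ≠ c) :
    Nat.card (d.F2 b a c) = Nat.card (d.F2 a b c) :=
  le_antisymm (d.card_F2_le hab hac) (d.card_F2_le hab.symm hbc)

end Hyp

end Cfsg.Agent.Spor.ONan
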