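import Mathlib

/-!
An abelian group partitioned by subgroups behaving like the lines through the origin of a space of
dimension at least three is a vector space over a field.
-/

set_option autoImplicit false
set_option linter.unusedSectionVars false
set_option linter.style.haveILetI false

namespace Cfsg.Agent.Spor.ONan

/-- A partition of an abelian group by subgroups, with the lines among them. -/
structure Spread (V I : Type*) [AddCommGroup V] where
  P : I → AddSubgroup V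
  line : I → I → Set I
  cover : ∀ v, ∃ c, v ∈ P c
  unique : ∀ {v : V} {c e : I}, v ∈ P c → v ∈ P e → v ≠ 0 → c = e
  exists_ne : ∀ c, ∃ v ∈ P c, v ≠ 0
  sum : ∀ {b c : I} {v w : V}, b ≠ c → v ∈ P b → w ∈ P c → ∃ e ∈ line b c, v + w ∈ P e
  split : ∀ {a b e : I} {t : V}, a ≠ b → e ∈ line a b → t ∈ P e →
    ∃ u ∈ P a, ∃ w ∈ P b, u + w = t
  left_mem : ∀ a b, a ∈ line a b
  right_mem : ∀ {a b : I}, a ≠ b → b ∈ line a b
  line_eq : ∀ {a b c e : I}, a ≠ b → c ∈ line a b → e ∈ line a b → c ≠ e → line c e = line a b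
  off : ∀ {b c : I}, b ≠ c → ∃ a, a ∉ line b c
  two : ∃ a b : I, a ≠ b

/-- A fresh carrier for the field. -/
def KType (n : ℕ) : Type := Fin n

namespace Spread

variable {V I : Type*} [AddCommGroup V] [Finite V] (s : Spread V I)

theorem eq_zero_of_mem {v : V} {c e : I} (h1 : v ∈ s.P c) (h2 : v ∈ s.P e) (h : c ≠ e) : v = 0 := by
  by_contra hv
  exact h (s.unique h1 h2 hv)

theorem sub_ne_zero' {b c : I} {u w : V} (hu : u ∈ s.P b) (hw : w ∈ s.P c) (hbc : b ≠ c)
    (hu0 : u ≠ 0) : u - w ≠ 0 := fun h =>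
  hu0 (s.eq_zero_of_mem hu (sub_eq_zero.mp h ▸ hw) hbc)

theorem sub_mem_line {b c d : I} {u w : V} (hu : u ∈ s.P b) (hw : w ∈ s.P c) (hbc : b ≠ c)
    (hu0 : u ≠ 0) (hd : u - w ∈ s.P d) : d ∈ s.line b c := by
  obtain ⟨e, he, h⟩ := s.sum hbc hu ((s.P c).neg_mem hw)
  rw [← sub_eq_add_neg] at h
  rwa [s.unique hd h (s.sub_ne_zero' hu hw hbc hu0)]

theorem centre_ne_left {b c d : I} {u w : V} (hu : u ∈ s.P b) (hw : w ∈ s.P c) (hbc : b ≠ c)
    (hw0 : w ≠ 0) (hd : u - w ∈ s.P d) : d ≠ b := by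
  rintro rfl
  exact hw0 (s.eq_zero_of_mem (c := d) (e := c) (by simpa using (s.P d).sub_mem hu hd) hw hbc)

theorem centre_ne_right {b c d : I} {u w : V} (hu : u ∈ s.P b) (hw : w ∈ s.P c) (hbc : b ≠ c)
    (hu0 : u ≠ 0) (hd : u - w ∈ s.P d) : d ≠ c := by
  rintro rfl
  exact hu0 (s.eq_zero_of_mem hu (by simpa using (s.P d).add_mem hd hw) hbc)

/-- The pairs `(t, t')` and `(u, u')` are similar. -/
def R (t t' u u' : V) : Prop := ∀ e, u - t ∈ s.P e → u' - t' ∈ s.P e

variable {s}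

theorem R.symm {t t' u u' : V} (h : s.R t t' u u') : s.R u u' t t' := fun e he => by
  have := h e (by simpa using (s.P e).neg_mem he)
  simpa using (s.P e).neg_mem this

variable (s)

theorem exists_sim {a b : I} (hab : a ≠ b) {t t' u : V} (ht : t ∈ s.P a) (ht0 : t ≠ 0)
    (ht' : t' ∈ s.P a) (hu : u ∈ s.P b) (hu0 : u ≠ 0) : ∃ u' ∈ s.P b, s.R t t' u u' := by
  obtain ⟨e, he⟩ := s.cover (u - t)
  have hel := s.sub_mem_line hu ht hab.symm hu0 he
  have heb := s.centre_ne_left hu ht hab.symm ht0 he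
  have hl : a ∈ s.line b e := by
    rw [s.line_eq hab.symm (s.left_mem _ _) hel heb.symm]
    exact s.right_mem hab.symm
  obtain ⟨x, hx, w, hw, hxw⟩ := s.split heb.symm hl ht'
  refine ⟨x, hx, fun e' he' => ?_⟩
  rw [← s.unique he he' (s.sub_ne_zero' hu ht hab.symm hu0), ← hxw]
  simpa using (s.P e).neg_mem hw

theorem sim_unique {a b : I} (hab : a ≠ b) {t t' u x y : V} (ht : t ∈ s.P a) (ht0 : t ≠ 0)
    (hu : u ∈ s.P b) (hx : x ∈ s.P b) (hy : y ∈ s.P b)
    (h1 : s.R t t' u x) (h2 : s.R t t' u y) : x = y := by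
  obtain ⟨e, he⟩ := s.cover (u - t)
  have h := (s.P e).sub_mem (h1 e he) (h2 e he)
  rw [sub_sub_sub_cancel_right] at h
  exact sub_eq_zero.mp (s.eq_zero_of_mem h ((s.P b).sub_mem hx hy)
    (s.centre_ne_left hu ht hab.symm ht0 he))

theorem inter {b c e g d : I} {p q r r' p' q' x x' : V} (hbc : b ≠ c) (heg : e ≠ g)
    (hne : s.line b c ≠ s.line e g) (hp : p ∈ s.P b) (hq : q ∈ s.P c) (hp' : p' ∈ s.P b)
    (hq' : q' ∈ s.P c) (hr : r ∈ s.P e) (hx : x ∈ s.P g) (hr' : r' ∈ s.P e) (hx' : x' ∈ s.P g)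
    (h : p - q = r - x) (h' : p' - q' = r' - x') (hd : p - q ∈ s.P d) (hv : p - q ≠ 0) :
    p' - q' ∈ s.P d := by
  by_cases hv' : p' - q' = 0
  · rw [hv']; exact zero_mem _
  obtain ⟨z, hz, hzm⟩ := s.sum hbc hp' ((s.P c).neg_mem hq')
  obtain ⟨z1, hz1, hzm1⟩ := s.sum heg hr' ((s.P g).neg_mem hx')
  obtain ⟨z2, hz2, hzm2⟩ := s.sum hbc hp ((s.P c).neg_mem hq)
  obtain ⟨z3, hz3, hzm3⟩ := s.sum heg hr ((s.P g).neg_mem hx)
  rw [← sub_eq_add_neg] at hzm hzm1 hzm2 hzm3
  rw [← h'] at hzm1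
  rw [← h] at hzm3
  obtain rfl := s.unique hzm hzm1 hv'
  obtain rfl := s.unique hzm2 hzm3 hv
  obtain rfl := s.unique hd hzm2 hv
  by_contra hc
  refine hne ?_
  have hzd : z ≠ d := fun e => hc (e ▸ hzm)
  rw [← s.line_eq hbc hz hz2 hzd, s.line_eq heg hz1 hz3 hzd]

theorem coh {a b c : I} (hab : a ≠ b) (hc : c ∉ s.line a b) {t t' u u' w w' : V}
    (ht : t ∈ s.P a) (ht0 : t ≠ 0) (ht' : t' ∈ s.P a) (hu : u ∈ s.P b) (hu0 : u ≠ 0)
    (hu' : u' ∈ s.P b) (hw : w ∈ s.P c) (hw0 : w ≠ 0) (hw' : w' ∈ s.P c)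
    (h1 : s.R t t' u u') (h2 : s.R t t' w w') :
    s.R u u' w w' ∧ s.R t t' (u - w) (u' - w') ∧ ∀ d, u - w ∈ s.P d → u' - w' ∈ s.P d := by
  have hac : a ≠ c := fun e => hc (e ▸ s.left_mem _ _)
  have hbc : b ≠ c := fun e => hc (e ▸ s.right_mem hab)
  have ha : a ∉ s.line b c := fun h => hc (by
    have := s.line_eq hbc h (s.left_mem _ _) hab
    rw [this]
    exact s.right_mem hbc)
  obtain ⟨e, he⟩ := s.cover (u - t)
  obtain ⟨g, hg⟩ := s.cover (w - t)
  have hel := s.sub_mem_line hu ht hab.symm hu0 he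
  have hgl := s.sub_mem_line hw ht hac.symm hw0 hg
  have heb := s.centre_ne_left hu ht hab.symm ht0 he
  have hea := s.centre_ne_right hu ht hab.symm hu0 he
  have heg : e ≠ g := fun h => by
    subst h
    have h1 := s.line_eq hab.symm hel (s.right_mem hab.symm) hea
    have h2 := s.line_eq hac.symm hgl (s.right_mem hac.symm) hea
    exact ha (by
      have h3 : c ∈ s.line b a := by rw [← h1, h2]; exact s.left_mem _ _
      rw [s.line_eq hab.symm (s.left_mem _ _) h3 hbc]
      exact s.right_mem hab.symm)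
  have hd : ∀ d, u - w ∈ s.P d → u' - w' ∈ s.P d := fun d hd => by
    refine s.inter hbc heg ?_ hu hw hu' hw' he hg (h1 e he) (h2 g hg) (by abel) (by abel) hd
      (s.sub_ne_zero' hu hw hbc hu0)
    intro h
    refine ha ?_
    have heL : e ∈ s.line b c := h ▸ s.left_mem e g
    rw [← s.line_eq hbc (s.left_mem _ _) heL heb.symm,
      s.line_eq hab.symm (s.left_mem _ _) hel heb.symm]
    exact s.right_mem hab.symm
  refine ⟨fun d hdm => ?_, fun d2 hd2 => ?_, hd⟩
  · have := hd d (by simpa using (s.P d).neg_mem hdm)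
    simpa using (s.P d).neg_mem this
  obtain ⟨d, hdm⟩ := s.cover (u - w)
  have hdl := s.sub_mem_line hu hw hbc hu0 hdm
  have hec : e ≠ c := fun h => hc (by
    subst h
    have h1 := s.line_eq hab (s.left_mem _ _) (s.right_mem hab) hab
    have h3 : s.line b a = s.line a b := by
      rw [s.line_eq hab (s.right_mem hab) (s.left_mem _ _) hab.symm]
    exact h3 ▸ hel)
  have hda : d ≠ a := fun h => ha (h ▸ hdl)
  have hd0 := s.sub_ne_zero' hu hw hbc hu0
  refine s.inter hda hec.symm.symm ?_ hdm ht (hd d hdm) ht' he hw (h1 e he) hw'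
    (show u - w - t = u - t - w by abel) (show u' - w' - t' = u' - t' - w' by abel) hd2
    (s.sub_ne_zero' hdm ht hda hd0)
  intro h
  refine hc ?_
  have haL : a ∈ s.line e c := h ▸ s.right_mem hda
  have h3 : s.line b a = s.line a b := by
    rw [s.line_eq hab (s.right_mem hab) (s.left_mem _ _) hab.symm]
  rw [← h3, ← s.line_eq hab.symm hel (s.right_mem hab.symm) hea,
    s.line_eq hec (s.left_mem _ _) haL hea]
  exact s.right_mem hec

/-- The endomorphisms fixing all the subgroups. -/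
def kernel : Subring (AddMonoid.End V) where
  carrier := {f | ∀ c, ∀ v ∈ s.P c, f v ∈ s.P c}
  mul_mem' hf hg c v hv := hf c _ (hg c v hv)
  one_mem' _ _ hv := hv
  add_mem' hf hg c v hv := (s.P c).add_mem (hf c v hv) (hg c v hv)
  zero_mem' c _ _ := (s.P c).zero_mem
  neg_mem' hf c v hv := (s.P c).neg_mem (hf c v hv)

/-- A kernel element with a prescribed value. -/
theorem exists_end {a : I} {t t' : V} (ht : t ∈ s.P a) (ht0 : t ≠ 0) (ht' : t' ∈ s.P a) :
    ∃ f ∈ s.kernel, f t = t' := by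
  classical
  obtain ⟨c, hca⟩ : ∃ c, c ≠ a := by
    obtain ⟨x, y, hxy⟩ := s.two
    by_cases hx : x = a
    · exact ⟨y, fun h => hxy (hx.trans h.symm)⟩
    · exact ⟨x, hx⟩
  obtain ⟨w, hw, hw0⟩ := s.exists_ne c
  obtain ⟨w', hw', htw⟩ := s.exists_sim hca.symm ht ht0 ht' hw hw0
  choose ctr hctr using s.cover
  have hctr' : ∀ {v : V} {e : I}, v ∈ s.P e → v ≠ 0 → ctr v = e := fun hv h0 =>
    s.unique (hctr _) hv h0
  let F : V → V := fun v =>
    if h0 : v = 0 then 0
    else if ha : ctr v = a then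
      (s.exists_sim hca hw hw0 hw' (ha ▸ hctr v) h0).choose
    else (s.exists_sim (Ne.symm ha) ht ht0 ht' (hctr v) h0).choose
  have hF0 : F 0 = 0 := by simp [F]
  have hFmem : ∀ {v : V} {e : I}, v ∈ s.P e → F v ∈ s.P e := by
    intro v e hv
    by_cases h0 : v = 0
    · subst h0; rw [hF0]; exact zero_mem _
    have he := hctr' hv h0
    by_cases ha : ctr v = a
    · simp only [F, dif_neg h0, dif_pos ha]
      rw [show e = a from he.symm.trans ha]
      exact (s.exists_sim hca hw hw0 hw' (ha ▸ hctr v) h0).choose_spec.1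
    · simp only [F, dif_neg h0, dif_neg ha]
      exact he ▸ (s.exists_sim (Ne.symm ha) ht ht0 ht' (hctr v) h0).choose_spec.1
  have hRt : ∀ {v : V} {e : I}, v ∈ s.P e → v ≠ 0 → e ≠ a → s.R t t' v (F v) := by
    intro v e hv h0 hea
    have ha : ctr v ≠ a := by rw [hctr' hv h0]; exact hea
    simp only [F, dif_neg h0, dif_neg ha]
    exact (s.exists_sim (Ne.symm ha) ht ht0 ht' (hctr v) h0).choose_spec.2
  have hRw : ∀ {v : V}, v ∈ s.P a → v ≠ 0 → s.R w w' v (F v) := by
    intro v hv h0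
    have ha := hctr' hv h0
    simp only [F, dif_neg h0, dif_pos ha]
    exact (s.exists_sim hca hw hw0 hw' (ha ▸ hctr v) h0).choose_spec.2
  have hFt : F t = t' := s.sim_unique hca hw hw0 ht (hFmem ht) ht' (hRw ht ht0) htw.symm
  have hFw : F w = w' := s.sim_unique hca.symm ht ht0 hw (hFmem hw) hw' (hRt hw hw0 hca) htw
  have hsymm : ∀ {x y : I}, x ≠ y → s.line y x = s.line x y := fun h =>
    (s.line_eq h (s.right_mem h) (s.left_mem _ _) h.symm)
  -- a point off the line `a c` is coherent with every point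
  have hoff : ∀ {y e : I} {v z : V}, v ∈ s.P y → v ≠ 0 → y ∉ s.line a c → z ∈ s.P e → z ≠ 0 →
      y ≠ e → s.R v (F v) z (F z) := by
    intro y e v z hv hv0 hy hz hz0 hye
    have hya : y ≠ a := fun h => hy (h ▸ s.left_mem _ _)
    have hwy : ∀ {y : I} {v : V}, v ∈ s.P y → v ≠ 0 → y ∉ s.line a c → s.R w w' v (F v) :=
      fun {y v} hv hv0 hy => hFw ▸ (s.coh hca.symm hy ht ht0 ht' hw hw0 hw' hv hv0 (hFmem hv)
        htw (hRt hv hv0 (fun h => hy (h ▸ s.left_mem _ _)))).1
    by_cases hae : e ∈ s.line a y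
    · have hyc : y ≠ c := fun h => hy (by rw [h]; exact s.right_mem hca.symm)
      have hcl : c ∉ s.line a y := fun h => hy (by
        rw [s.line_eq hya.symm (s.left_mem _ _) h hca.symm]
        exact s.right_mem hya.symm)
      have hel : e ∉ s.line c y := fun h => hcl (by
        rw [← s.line_eq hya.symm (s.right_mem hya.symm) hae hye,
          s.line_eq hyc.symm (s.right_mem hyc.symm) h hye]
        exact s.left_mem _ _)
      refine (s.coh hyc.symm hel hw hw0 hw' hv hv0 (hFmem hv) hz hz0 (hFmem hz)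
        (hwy hv hv0 hy) ?_).1
      by_cases hea : e = a
      · subst hea; exact hRw hz hz0
      · refine hwy hz hz0 fun h => hy ?_
        rw [← s.line_eq hca.symm (s.left_mem _ _) h (Ne.symm hea),
          s.line_eq hya.symm (s.left_mem _ _) hae (Ne.symm hea)]
        exact s.right_mem hya.symm
    · exact (s.coh hya.symm hae ht ht0 ht' hv hv0 (hFmem hv) hz hz0 (hFmem hz) (hRt hv hv0 hya)
        (hRt hz hz0 (fun h => hae (h ▸ s.left_mem _ _)))).1
  have hall : ∀ {x e : I} {v z : V}, v ∈ s.P x → v ≠ 0 → z ∈ s.P e → z ≠ 0 → x ≠ e →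
      s.R v (F v) z (F z) := by
    intro x e v z hv hv0 hz hz0 hxe
    by_cases hx : x ∈ s.line a c
    · by_cases he : e ∈ s.line a c
      · obtain ⟨y, hy⟩ := s.off hca.symm
        obtain ⟨k, hk, hk0⟩ := s.exists_ne y
        have hyx : y ≠ x := fun h => hy (h ▸ hx)
        have hye : y ≠ e := fun h => hy (h ▸ he)
        refine (s.coh hyx (fun h => hy ?_) hk hk0 (hFmem hk) hv hv0 (hFmem hv) hz hz0 (hFmem hz)
          (hoff hk hk0 hy hv hv0 hyx) (hoff hk hk0 hy hz hz0 hye)).1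
        rw [← s.line_eq hca.symm hx he hxe, s.line_eq hyx (s.right_mem hyx) h hxe]
        exact s.left_mem _ _
      · exact (hoff hz hz0 he hv hv0 hxe.symm).symm
    · exact hoff hv hv0 hx hz hz0 hxe
  have hdiff : ∀ {x e : I} {v z : V}, v ∈ s.P x → v ≠ 0 → z ∈ s.P e → z ≠ 0 → x ≠ e →
      F (v - z) = F v - F z := by
    intro x e v z hv hv0 hz hz0 hxe
    obtain ⟨y, hy⟩ := s.off hxe
    obtain ⟨k, hk, hk0⟩ := s.exists_ne y
    have hyx : y ≠ x := fun h => hy (h ▸ s.left_mem _ _)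
    have hye : y ≠ e := fun h => hy (by rw [h]; exact s.right_mem hxe)
    have he' : e ∉ s.line y x := fun h => hy (by
      rw [s.line_eq hyx (s.right_mem hyx) h hxe]
      exact s.left_mem _ _)
    obtain ⟨-, h2, h3⟩ := s.coh hyx he' hk hk0 (hFmem hk) hv hv0 (hFmem hv) hz hz0 (hFmem hz)
      (hall hk hk0 hv hv0 hyx) (hall hk hk0 hz hz0 hye)
    obtain ⟨d, hd⟩ := s.cover (v - z)
    have hne := s.sub_ne_zero' hv hz hxe hv0
    have hdy : y ≠ d := fun h => hy (h ▸ s.sub_mem_line hv hz hxe hv0 hd)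
    exact s.sim_unique hdy hk hk0 hd (hFmem hd) (h3 d hd) (hall hk hk0 hd hne hdy) h2
  have hneg : ∀ {x : I} {v : V}, v ∈ s.P x → F (-v) = -F v := by
    intro x v hv
    by_cases hv0 : v = 0
    · subst hv0; rw [neg_zero, hF0, neg_zero]
    obtain ⟨y, hyx⟩ : ∃ y, y ≠ x := by
      obtain ⟨p, q, hpq⟩ := s.two
      by_cases hp : p = x
      · exact ⟨q, fun h => hpq (hp.trans h.symm)⟩
      · exact ⟨p, hp⟩
    obtain ⟨k, hk, hk0⟩ := s.exists_ne y
    obtain ⟨d, hd⟩ := s.cover (k - v)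
    have := hdiff hd (s.sub_ne_zero' hk hv hyx hk0) hk hk0
      (s.centre_ne_left hk hv hyx hv0 hd)
    rw [sub_sub_cancel_left, hdiff hk hk0 hv hv0 hyx, sub_sub_cancel_left] at this
    exact this
  have hsub : ∀ v z : V, F (v - z) = F v - F z := by
    intro v z
    by_cases hv0 : v = 0
    · rw [hv0, zero_sub, hF0, zero_sub, hneg (hctr z)]
    by_cases hz0 : z = 0
    · rw [hz0, sub_zero, hF0, sub_zero]
    by_cases hxe : ctr v = ctr z
    · rcases eq_or_ne v z with rfl | hvz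
      · rw [sub_self, hF0, sub_self]
      obtain ⟨y, hyx⟩ : ∃ y, y ≠ ctr v := by
        obtain ⟨p, q, hpq⟩ := s.two
        by_cases hp : p = ctr v
        · exact ⟨q, fun h => hpq (hp.trans h.symm)⟩
        · exact ⟨p, hp⟩
      obtain ⟨k, hk, hk0⟩ := s.exists_ne y
      obtain ⟨d1, hd1⟩ := s.cover (v - k)
      obtain ⟨d2, hd2⟩ := s.cover (z - k)
      have hzv : z ∈ s.P (ctr v) := hxe ▸ hctr z
      have h1 := s.sub_ne_zero' (hctr v) hk hyx.symm hv0
      have h2 := s.sub_ne_zero' hzv hk hyx.symm hz0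
      have hdd : d1 ≠ d2 := fun h => by
        subst h
        have h' := (s.P d1).sub_mem hd1 hd2
        rw [sub_sub_sub_cancel_right] at h'
        exact hvz (sub_eq_zero.mp (s.eq_zero_of_mem h' ((s.P _).sub_mem (hctr v) hzv)
          (s.centre_ne_left (hctr v) hk hyx.symm hk0 hd1)))
      have := hdiff hd1 h1 hd2 h2 hdd
      rw [sub_sub_sub_cancel_right, hdiff (hctr v) hv0 hk hk0 hyx.symm,
        hdiff hzv hz0 hk hk0 hyx.symm, sub_sub_sub_cancel_right] at this
      exact this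
    · exact hdiff (hctr v) hv0 (hctr z) hz0 hxe
  exact ⟨AddMonoidHom.ofMapSub F hsub, fun _ _ hv => hFmem hv, hFt⟩

theorem kernel_injective {f : AddMonoid.End V} (hf : f ∈ s.kernel) (hf0 : f ≠ 0) :
    Function.Injective f := by
  rw [injective_iff_map_eq_zero]
  intro t hft
  by_contra ht0
  obtain ⟨a, ha⟩ := s.cover t
  have hother : ∀ {b : I} {u : V}, b ≠ a → u ∈ s.P b → f u = 0 := by
    intro b u hba hu
    by_cases hu0 : u = 0
    · rw [hu0, map_zero]
    obtain ⟨e, he⟩ := s.cover (u - t)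
    have h := hf e _ he
    rw [map_sub, hft, sub_zero] at h
    exact s.eq_zero_of_mem h (hf b u hu) (s.centre_ne_left hu ha hba ht0 he)
  refine hf0 (AddMonoidHom.ext fun v => ?_)
  obtain ⟨c, hc⟩ := s.cover v
  show f v = 0
  by_cases hca : c = a
  · subst hca
    by_cases hv0 : v = 0
    · rw [hv0, map_zero]
    obtain ⟨b, hbc⟩ : ∃ b, b ≠ c := by
      obtain ⟨x, y, hxy⟩ := s.two
      by_cases hx : x = c
      · exact ⟨y, fun h => hxy (hx.trans h.symm)⟩
      · exact ⟨x, hx⟩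
    obtain ⟨k, hk, hk0⟩ := s.exists_ne b
    obtain ⟨e, he⟩ := s.cover (k - v)
    have h := hother (s.centre_ne_right hk hc hbc hk0 he) he
    rw [map_sub, hother hbc hk, zero_sub, neg_eq_zero] at h
    exact h
  · exact hother hca hc

/-- The group is a vector space and the subgroups are the one dimensional subspaces. -/
theorem exists_field : ∃ (K : Type) (_ : Field K) (_ : Finite K) (_ : Module K V),
    ∀ c : I, ∃ v ∈ s.P c, v ≠ 0 ∧ ∀ x, x ∈ s.P c ↔ ∃ k : K, k • v = x := by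
  haveI : Finite (AddMonoid.End V) := Finite.of_injective
    (fun f => (f : V → V)) (fun f g h => AddMonoidHom.ext (congrFun h))
  obtain ⟨x0, -, -⟩ := s.two
  obtain ⟨t0, ht0, ht0'⟩ := s.exists_ne x0
  haveI : Nontrivial s.kernel := ⟨⟨0, 1, fun h => ht0' (by
    have := congrArg (fun f : s.kernel => (f : AddMonoid.End V) t0) h
    simpa using this.symm)⟩⟩
  haveI : NoZeroDivisors s.kernel := ⟨fun {f g} hfg => by
    rcases eq_or_ne g 0 with hg | hg
    · exact Or.inr hg
    left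
    have hb := Finite.surjective_of_injective
      (s.kernel_injective g.2 (fun h => hg (Subtype.ext h)))
    refine Subtype.ext (AddMonoidHom.ext fun v => ?_)
    obtain ⟨u, rfl⟩ := hb v
    exact congrArg (fun h : s.kernel => (h : AddMonoid.End V) u) hfg⟩
  haveI : IsDomain s.kernel := NoZeroDivisors.to_isDomain _
  letI : Field s.kernel := (Finite.isDomain_to_isField s.kernel).toField
  let e : s.kernel ≃ KType (Nat.card s.kernel) := Finite.equivFin _
  letI : Field (KType (Nat.card s.kernel)) := e.symm.field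
  haveI : Finite (KType (Nat.card s.kernel)) := Finite.of_equiv _ e
  let r : KType (Nat.card s.kernel) ≃+* s.kernel := e.symm.ringEquiv
  letI : Module (KType (Nat.card s.kernel)) V := Module.compHom V r.toRingHom
  refine ⟨KType (Nat.card s.kernel), inferInstance, inferInstance, inferInstance, fun c => ?_⟩
  obtain ⟨v, hv, hv0⟩ := s.exists_ne c
  refine ⟨v, hv, hv0, fun x => ⟨fun hx => ?_, ?_⟩⟩
  · obtain ⟨f, hf, hfv⟩ := s.exists_end hv hv0 hx
    refine ⟨r.symm ⟨f, hf⟩, ?_⟩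
    show ((r (r.symm ⟨f, hf⟩) : s.kernel) : AddMonoid.End V) v = x
    rw [RingEquiv.apply_symm_apply]
    exact hfv
  · rintro ⟨k, rfl⟩
    exact (r k).2 c v hv

end Spread

end Cfsg.Agent.Spor.ONan
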