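import Cfsg.Agent.Lib.Spor.ONan.Translate
import Cfsg.Agent.Lib.Spor.ONan.Spread
import Cfsg.Agent.S3732

/-!
The points and lines are those of a projective space over a field.
-/

set_option autoImplicit false
set_option linter.unusedSectionVars false
set_option linter.style.haveILetI false

namespace Cfsg.Agent.Spor.ONan.Hyp

variable {G X : Type*} [Group G] [Finite G] [MulAction G X] [FaithfulSMul G X] [Finite X]
  [Nontrivial X]

/-- The points below a plane of vectors. -/
theorem ncard_below {K : Type*} [Field K] [Finite K] {W : Type*} [AddCommGroup W] [Module K W]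
    (φ : X ≃ Projectivization K W) (U : Submodule K W) (hU : Module.finrank K U = 2) :
    {x | (φ x).submodule ≤ U}.ncard = Nat.card K + 1 := by
  have h : φ '' {x | (φ x).submodule ≤ U} =
      Set.range (Projectivization.map U.subtype U.injective_subtype) := by
    ext x
    constructor
    · rintro ⟨y, hy, rfl⟩
      refine ⟨Projectivization.mk K ⟨(φ y).rep, ?_⟩
        (fun e => (φ y).rep_nonzero (congrArg Subtype.val e)), ?_⟩
      · exact hy (by rw [Projectivization.submodule_eq]; exact Submodule.mem_span_singleton_self _)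
      · rw [Projectivization.map_mk]
        exact Projectivization.mk_rep _
    · rintro ⟨y, rfl⟩
      refine ⟨_, ?_, φ.apply_symm_apply _⟩
      show (φ (φ.symm _)).submodule ≤ U
      rw [φ.apply_symm_apply]
      induction y using Projectivization.ind with | _ w hw =>
      rw [Projectivization.map_mk, Projectivization.submodule_mk, Submodule.span_singleton_le_iff_mem]
      exact w.2
  rw [← Set.ncard_image_of_injective _ φ.injective, h, ← Nat.card_coe_set_eq,
    Nat.card_range_of_injective (Projectivization.map_injective _ _),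
    Projectivization.card_of_finrank_two K U hU]

theorem finrank_sup {K : Type*} [Field K] {W : Type*} [AddCommGroup W] [Module K W]
    {x y : Projectivization K W} (h : x ≠ y) :
    Module.finrank K ↥(x.submodule ⊔ y.submodule) = 2 := by
  have hl : LinearIndependent K ![x.rep, y.rep] := by
    rw [← Projectivization.independent_pair_iff_ne] at h
    rw [Projectivization.independent_iff] at h
    convert h using 1
    ext i
    fin_cases i <;> rfl
  have := finrank_span_eq_card hl
  rw [Fintype.card_fin, Matrix.range_cons, Matrix.range_cons, Matrix.range_empty, Set.union_empty,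
    Submodule.span_union] at this
  rwa [x.submodule_eq, y.submodule_eq]

variable (d : Hyp G X)

/-- Coordinates: a bijection with a projective space carrying lines to lines. -/
def IsCoord {K : Type} [Field K] {n : ℕ} (φ : X ≃ Projectivization K (Fin n → K)) : Prop :=
  ∀ {a b c : X}, a ≠ b →
    (c ∈ d.line a b ↔ (φ c).submodule ≤ (φ a).submodule ⊔ (φ b).submodule)

theorem exists_third {a b : X} (hab : a ≠ b) : ∃ x ∈ d.line a b, x ≠ a ∧ x ≠ b := by
  by_contra hne
  push Not at hne
  have hsub : d.line a b ⊆ {a, b} := fun x hx => by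
    by_cases hxa : x = a
    · exact Or.inl hxa
    · exact Or.inr (hne x hx hxa)
  have h1 := Set.ncard_le_ncard hsub
  rw [d.card_line hab, Set.ncard_pair hab] at h1
  have := d.two_le_S hab
  omega

theorem line_transport {a b a' b' : X} (hab : a ≠ b) (hab' : a' ≠ b') (h : d.IsHyp (d.line a b)) :
    d.IsHyp (d.line a' b') := by
  obtain ⟨g, hg, hg'⟩ := d.two hab hab'
  subst hg; subst hg'
  obtain ⟨x, hx⟩ := d.exists_not_mem_line hab'
  refine ⟨⟨x, hx⟩, fun hxy hx' hy' => (d.line_eq hab' hx' hy' hxy).le, fun {p q} hpq => ?_⟩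
  obtain ⟨z, hz, hz'⟩ := h.meet (fun e => hpq (smul_left_cancel g⁻¹ e) : g⁻¹ • p ≠ g⁻¹ • q)
  refine ⟨g • z, ?_, (d.smul_mem_line g).mpr hz'⟩
  have := (d.smul_mem_line g).mpr hz
  rwa [smul_inv_smul, smul_inv_smul] at this

theorem coord_plane {a₀ b₀ : X} (h₀ : a₀ ≠ b₀) (hH : d.IsHyp (d.line a₀ b₀)) :
    ∃ (K : Type) (_ : Field K) (_ : Finite K) (n : ℕ), 3 ≤ n ∧
      ∃ φ : X ≃ Projectivization K (Fin n → K), d.IsCoord φ := by
  classical
  let L := {l : Set X // ∃ a b, a ≠ b ∧ l = d.line a b}
  let mk : ∀ {a b : X}, a ≠ b → L := fun {a b} h => ⟨d.line a b, a, b, h, rfl⟩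
  letI : Membership X L := ⟨fun l x => x ∈ l.1⟩
  letI := Fintype.ofFinite X
  letI := Fintype.ofFinite L
  have hmeet : ∀ {l₁ l₂ : L}, l₁ ≠ l₂ → ∃ x, x ∈ l₁.1 ∧ x ∈ l₂.1 := by
    rintro ⟨_, a, b, hab, rfl⟩ ⟨_, c, e, hce, rfl⟩ -
    obtain ⟨x, hx, hx'⟩ := (d.line_transport h₀ hce hH).meet hab
    exact ⟨x, hx, hx'⟩
  haveI : Configuration.Nondegenerate X L :=
    { exists_point := by
        rintro ⟨_, a, b, hab, rfl⟩
        exact d.exists_not_mem_line hab
      exists_line := fun p => by
        obtain ⟨b, c, hbc, hp⟩ := d.exists_other p inferInstance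
        exact ⟨mk hbc, hp⟩
      eq_or_eq := by
        rintro p q ⟨_, a, b, hab, rfl⟩ ⟨_, c, e, hce, rfl⟩ h1 h2 h3 h4
        rcases eq_or_ne p q with h | h
        · exact Or.inl h
        · exact Or.inr (Subtype.ext (d.eq_of_two hab hce h h1 h2 h3 h4)) }
  letI : Configuration.ProjectivePlane X L :=
    { mkPoint := fun {l₁ l₂} h => (hmeet h).choose
      mkPoint_ax := fun {l₁ l₂} h => (hmeet h).choose_spec
      mkLine := fun {p q} h => mk h
      mkLine_ax := fun {p q} h => ⟨d.left_mem _ _, d.right_mem h⟩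
      exists_config := by
        obtain ⟨c, hc⟩ := d.exists_not_mem_line h₀
        have hac : a₀ ≠ c := fun h => hc (h ▸ d.left_mem _ _)
        have hbc : b₀ ≠ c := fun h => hc (by rw [← h]; exact d.right_mem h₀)
        have ha : a₀ ∉ d.line b₀ c := d.not_mem_left h₀ hc
        have hb : b₀ ∉ d.line a₀ c := d.not_mem_mid h₀ hc
        obtain ⟨w, hw, hwa, hwc⟩ := d.exists_third hac
        obtain ⟨e, he, heb, hec⟩ := d.exists_third hbc
        have hae : a₀ ≠ e := fun h => ha (h ▸ he)
        refine ⟨w, b₀, c, mk hae, mk hbc, mk h₀, ?_, ?_, ?_, d.left_mem _ _, d.right_mem h₀, ?_,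
          d.right_mem hbc, hc⟩
        · intro h
          exact hwc (d.meet_unique h₀ hc hw h)
        · intro h
          refine hc ?_
          rw [← d.eq_of_two hac h₀ hwa.symm (d.left_mem _ _) hw (d.left_mem _ _) h]
          exact d.right_mem hac
        · intro h
          refine ha ?_
          rw [← d.eq_of_two hae hbc heb.symm h (d.right_mem hae) (d.left_mem _ _) he]
          exact d.left_mem _ _
        · intro h
          refine ha ?_
          rw [← d.eq_of_two hae hbc hec.symm h (d.right_mem hae) (d.right_mem hbc) he]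
          exact d.left_mem _ _ }
  have hml : ∀ (x : X) (l : L), x ∈ l ↔ x ∈ l.1 := fun x l => Iff.rfl
  obtain ⟨K, instK, instKf, φ, hφ, -⟩ := S3732.result (P := X) (L := L) (by
    intro p₁ p₂ q₁ q₂ hp hq
    obtain ⟨g, hg, hg'⟩ := d.two hp hq
    have hl : ∀ (g : G) (l : L), ∃ m : L, ∀ x : X, g • x ∈ m.1 ↔ x ∈ l.1 := by
      rintro g ⟨_, a, b, hab, rfl⟩
      exact ⟨mk fun e => hab (smul_left_cancel g e), fun x => d.smul_mem_line g⟩
    choose τ hτ using hl
    refine ⟨MulAction.toPerm g, Equiv.ofBijective (τ g)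
      ((Finite.injective_iff_bijective).mp fun l m h => ?_), fun x l => hτ g l x, hg, hg'⟩
    refine Subtype.ext (Set.ext fun x => ?_)
    rw [← hτ g l x, h, hτ g m x])
  refine ⟨K, instK, Finite.of_fintype K, 3, le_rfl, φ, ?_⟩
  intro a b c hab
  obtain ⟨W, hW, hWl⟩ := hφ (mk hab)
  have hle : (φ a).submodule ⊔ (φ b).submodule ≤ W :=
    sup_le ((hWl a).mp (d.left_mem a b)) ((hWl b).mp (d.right_mem hab))
  rw [Submodule.eq_of_le_of_finrank_eq hle (by
    rw [hW, finrank_sup fun e => hab (φ.injective e)])]
  exact hWl c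

end Cfsg.Agent.Spor.ONan.Hyp
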