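import Cfsg.Agent.Lib.Spor.ONan.Coord

/-!
Coordinates from the translation group when a hyperplane is more than a line.
-/

set_option autoImplicit false
set_option linter.unusedSectionVars false
set_option linter.style.haveILetI false

namespace Cfsg.Agent.Spor.ONan.Hyp.Base

variable {G X : Type*} [Group G] [Finite G] [MulAction G X] [FaithfulSMul G X] [Finite X]
  [Nontrivial X] {d : Hyp G X} (B : d.Base)

instance groupComm : CommGroup ↥B.group :=
  { (inferInstance : Group ↥B.group) with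
    mul_comm := fun x y => Subtype.ext (by
      obtain ⟨b, hb, hx⟩ := x.2
      obtain ⟨c, hc, hy⟩ := y.2
      exact B.commute hb hc hx hy) }

/-- The translations as an additive group. -/
abbrev Vec : Type _ := Additive ↥B.group

/-- The translation behind a vector. -/
def val (v : B.Vec) : G := ((Additive.toMul v : ↥B.group) : G)

theorem val_mem (v : B.Vec) : B.val v ∈ B.group := (Additive.toMul v : ↥B.group).2

theorem val_add (v w : B.Vec) : B.val (v + w) = B.val v * B.val w := rfl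

theorem val_zero : B.val 0 = 1 := rfl

theorem val_neg (v : B.Vec) : B.val (-v) = (B.val v)⁻¹ := rfl

theorem val_inj {v w : B.Vec} (h : B.val v = B.val w) : v = w :=
  Additive.toMul.injective (Subtype.ext h)

theorem exists_val {g : G} (hg : g ∈ B.group) : ∃ v : B.Vec, B.val v = g :=
  ⟨Additive.ofMul ⟨g, hg⟩, rfl⟩

/-- The vectors of the translations with centre `c`. -/
def Pt (c : X) : AddSubgroup B.Vec where
  carrier := {v | B.val v ∈ B.T c}
  add_mem' {v w} hv hw := by show B.val (v + w) ∈ B.T c; rw [B.val_add]; exact mul_mem hv hw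
  zero_mem' := by show B.val 0 ∈ B.T c; rw [B.val_zero]; exact one_mem _
  neg_mem' {v} hv := by show B.val (-v) ∈ B.T c; rw [B.val_neg]; exact inv_mem hv

theorem mem_Pt {c : X} {v : B.Vec} : v ∈ B.Pt c ↔ B.val v ∈ B.T c := Iff.rfl

/-- The spread of the translation group. -/
def spread (hbig : ∀ b ∈ B.H, ∀ c ∈ B.H, b ≠ c → ∃ a ∈ B.H, a ∉ d.line b c) :
    Spread B.Vec ↥B.H where
  P c := B.Pt c
  line a b := {c | (c : X) ∈ d.line a b}
  cover v := by
    obtain ⟨c, hc, h⟩ := B.val_mem v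
    exact ⟨⟨c, hc⟩, h⟩
  unique {v c e} h1 h2 h0 := Subtype.ext (B.centre_unique h1 h2 fun h =>
    h0 (B.val_inj (h.trans B.val_zero.symm)))
  exists_ne c := by
    obtain ⟨t, ht, ht1⟩ := B.exists_ne_one c.2
    obtain ⟨v, rfl⟩ := B.exists_val (B.mem_group.mpr ⟨c, c.2, ht⟩)
    exact ⟨v, ht, fun h => ht1 (by rw [h, B.val_zero])⟩
  sum {b c v w} hbc hv hw := by
    obtain ⟨e, he, heH, hp⟩ := B.prod_mem b.2 c.2 (fun h => hbc (Subtype.ext h)) hv hw
    exact ⟨⟨e, heH⟩, he, hp⟩
  split {a b e t} hab he ht := by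
    obtain ⟨u, hu, w, hw, huw⟩ := B.sum_mem a.2 b.2 (fun h => hab (Subtype.ext h)) he ht
    obtain ⟨u', rfl⟩ := B.exists_val (B.mem_group.mpr ⟨a, a.2, hu⟩)
    obtain ⟨w', rfl⟩ := B.exists_val (B.mem_group.mpr ⟨b, b.2, hw⟩)
    exact ⟨u', hu, w', hw, B.val_inj huw⟩
  left_mem a b := d.left_mem _ _
  right_mem hab := d.right_mem fun h => hab (Subtype.ext h)
  line_eq {a b c e} hab hc he hce := by
    ext z
    show (z : X) ∈ d.line c e ↔ (z : X) ∈ d.line a b
    rw [d.line_eq (fun h => hab (Subtype.ext h)) hc he (fun h => hce (Subtype.ext h))]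
  off {b c} hbc := by
    obtain ⟨a, ha, h⟩ := hbig b b.2 c c.2 fun h => hbc (Subtype.ext h)
    exact ⟨⟨a, ha⟩, h⟩
  two := by
    obtain ⟨e, he, hea⟩ := B.isHyp.exists_ne B.a0
    exact ⟨⟨e, he⟩, ⟨B.a0, B.a0_mem⟩, fun h => hea (congrArg Subtype.val h)⟩

theorem coord_big (hbig : ∀ b ∈ B.H, ∀ c ∈ B.H, b ≠ c → ∃ a ∈ B.H, a ∉ d.line b c) :
    ∃ (K : Type) (_ : Field K) (_ : Finite K) (n : ℕ), 3 ≤ n ∧
      ∃ φ : X ≃ Projectivization K (Fin n → K), d.IsCoord φ := by
  classical
  obtain ⟨K, instK, instKf, instM, hgen⟩ := (B.spread hbig).exists_field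
  choose gen hgenP hgen0 hgenI using hgen
  obtain ⟨q0, hq0⟩ := B.isHyp.proper
  have htr : ∀ x : X, x ∉ B.H → ∃ v : B.Vec, B.val v • q0 = x := fun x hx => by
    obtain ⟨g, hg, hgx⟩ := B.group_trans hq0 hx
    obtain ⟨v, rfl⟩ := B.exists_val hg
    exact ⟨v, hgx⟩
  choose tr htr using htr
  have truniq : ∀ {x : X} (hx : x ∉ B.H) {v : B.Vec}, B.val v • q0 = x → v = tr x hx := by
    intro x hx v hv
    refine B.val_inj ?_
    have := B.group_semiregular (mul_mem (inv_mem (B.val_mem (tr x hx))) (B.val_mem v)) hq0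
      (by rw [mul_smul, hv, inv_smul_eq_iff]; exact (htr x hx).symm)
    exact (inv_mul_eq_one.mp this).symm
  let r : X → B.Vec × K := fun x => if h : x ∈ B.H then (gen ⟨x, h⟩, 0) else (tr x h, 1)
  have hrH : ∀ {x : X} (h : x ∈ B.H), r x = (gen ⟨x, h⟩, 0) := fun h => dif_pos h
  have hrA : ∀ {x : X} (h : x ∉ B.H), r x = (tr x h, 1) := fun h => dif_neg h
  have hr0 : ∀ x, r x ≠ 0 := fun x => by
    by_cases h : x ∈ B.H
    · rw [hrH h]; exact fun e => hgen0 _ (congrArg Prod.fst e)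
    · rw [hrA h]; exact fun e => one_ne_zero (congrArg Prod.snd e)
  have hinj : ∀ {x y : X} {k : K}, k • r y = r x → x = y := by
    intro x y k h
    have hk : k ≠ 0 := fun hk => hr0 x (by rw [← h, hk, zero_smul])
    by_cases hx : x ∈ B.H <;> by_cases hy : y ∈ B.H
    · rw [hrH hx, hrH hy, Prod.smul_mk] at h
      have h1 : gen ⟨x, hx⟩ ∈ (B.spread hbig).P ⟨y, hy⟩ :=
        (hgenI _ _).mpr ⟨k, congrArg Prod.fst h⟩
      exact congrArg Subtype.val ((B.spread hbig).unique (hgenP _) h1 (hgen0 _))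
    · rw [hrH hx, hrA hy, Prod.smul_mk] at h
      have := congrArg Prod.snd h
      simp [hk] at this
    · rw [hrA hx, hrH hy, Prod.smul_mk] at h
      have := congrArg Prod.snd h
      simp at this
    · rw [hrA hx, hrA hy, Prod.smul_mk] at h
      have h2 := congrArg Prod.snd h
      simp only [smul_eq_mul, mul_one] at h2
      subst h2
      have h1 := congrArg Prod.fst h
      simp only [one_smul] at h1
      rw [← htr x hx, ← htr y hy, h1]
  -- a line through a point of the hyperplane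
  have hstep : ∀ {z x y : X}, z ∈ B.H → x ∉ B.H → y ∈ d.line z x → y ≠ z →
      ∃ k : K, r y = r x + k • r z := by
    intro z x y hz hx hy hyz
    have hy' : y ∉ B.H := fun h => hyz (B.isHyp.meet_one hz hx hy h)
    obtain ⟨t, ht, htx⟩ := B.trans hz hx hy hyz
    obtain ⟨v, rfl⟩ := B.exists_val (B.mem_group.mpr ⟨z, hz, ht⟩)
    obtain ⟨k, hk⟩ := (hgenI ⟨z, hz⟩ v).mp ht
    refine ⟨k, ?_⟩
    rw [hrA hx, hrA hy', hrH hz, ← truniq hy' (v := v + tr x hx)
      (by rw [B.val_add, mul_smul, htr, htx]), Prod.smul_mk, Prod.mk_add_mk, hk, smul_zero,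
      add_zero, add_comm v]
  have hfwd : ∀ {a b c : X}, a ≠ b → c ∈ d.line a b → r c ∈ Submodule.span K {r a, r b} := by
    have hcase : ∀ {a b c : X}, a ≠ b → a ∈ B.H → b ∉ B.H → c ∈ d.line a b →
        r c ∈ Submodule.span K {r a, r b} := by
      intro a b c hab ha hb hc
      rw [Submodule.mem_span_pair]
      rcases eq_or_ne c a with rfl | hca
      · exact ⟨1, 0, by rw [one_smul, zero_smul, add_zero]⟩
      · obtain ⟨k, hk⟩ := hstep ha hb hc hca
        exact ⟨k, 1, by rw [one_smul, hk, add_comm]⟩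
    intro a b c hab hc
    by_cases ha : a ∈ B.H <;> by_cases hb : b ∈ B.H
    · have hcH := B.isHyp.closed hab ha hb hc
      rw [Submodule.mem_span_pair, hrH ha, hrH hb, hrH hcH]
      obtain ⟨u, hu, w, hw, huw⟩ := (B.spread hbig).split (a := ⟨a, ha⟩) (b := ⟨b, hb⟩)
        (e := ⟨c, hcH⟩) (fun h => hab (congrArg Subtype.val h)) hc (hgenP _)
      obtain ⟨k, hk⟩ := (hgenI _ _).mp hu
      obtain ⟨l, hl⟩ := (hgenI _ _).mp hw
      exact ⟨k, l, by simp [hk, hl, huw]⟩
    · exact hcase hab ha hb hc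
    · rw [Set.pair_comm]
      exact hcase hab.symm hb ha (d.line_comm hab ▸ hc)
    · obtain ⟨z, hz, hzH⟩ := B.isHyp.meet hab
      have hza : z ≠ a := fun e => ha (e ▸ hzH)
      have hl : d.line z a = d.line a b := d.line_eq hab hz (d.left_mem _ _) hza
      have hbz : b ≠ z := fun e => hb (e ▸ hzH)
      obtain ⟨k, hk⟩ := hstep hzH ha (hl ▸ d.right_mem hab) hbz
      have hk0 : k ≠ 0 := fun h => hab (hinj (k := 1) (by rw [hk, h, zero_smul, add_zero, one_smul]))
      have hrz : r z ∈ Submodule.span K {r a, r b} := by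
        rw [Submodule.mem_span_pair]
        refine ⟨-k⁻¹, k⁻¹, ?_⟩
        rw [hk, smul_add, smul_smul, inv_mul_cancel₀ hk0, one_smul, neg_smul, neg_add_cancel_left]
      rcases eq_or_ne c z with rfl | hcz
      · exact hrz
      · obtain ⟨l, hl'⟩ := hstep hzH ha (hl ▸ hc) hcz
        rw [hl']
        exact Submodule.add_mem _ (Submodule.subset_span (Set.mem_insert _ _))
          (Submodule.smul_mem _ _ hrz)
  haveI : Finite B.Vec := inferInstance
  haveI : Module.Finite K (B.Vec × K) := Module.Finite.of_finite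
  let n := Module.finrank K (B.Vec × K)
  let e : (B.Vec × K) ≃ₗ[K] (Fin n → K) := (Module.finBasis K (B.Vec × K)).equivFun
  have hn : 3 ≤ n := by
    obtain ⟨a, b, hab⟩ := (B.spread hbig).two
    have hl : LinearIndependent K ![gen a, gen b] := by
      rw [LinearIndependent.pair_iff' (hgen0 a)]
      intro k hk
      exact hab ((B.spread hbig).unique ((hgenI a _).mpr ⟨k, hk⟩) (hgenP b) (hgen0 b))
    have h2 := hl.fintype_card_le_finrank
    rw [Fintype.card_fin] at h2
    show 3 ≤ Module.finrank K (B.Vec × K)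
    rw [Module.finrank_prod, Module.finrank_self]
    omega
  have hbij : Function.Bijective fun x : X => Projectivization.mk K (e (r x))
      (fun h => hr0 x (e.map_eq_zero_iff.mp h)) := by
    refine ⟨fun x y h => ?_, fun p => ?_⟩
    · obtain ⟨k, hk⟩ := (Projectivization.mk_eq_mk_iff' K _ _ _ _).mp h
      exact hinj (e.injective (by rw [map_smul]; exact hk))
    induction p using Projectivization.ind with | _ w hw =>
    obtain ⟨⟨v, k⟩, rfl⟩ := e.surjective w
    by_cases hk : k = 0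
    · subst hk
      have hv : v ≠ 0 := fun h => hw (by rw [h, ← Prod.zero_eq_mk, map_zero])
      obtain ⟨c, hc⟩ := (B.spread hbig).cover v
      obtain ⟨l, hl⟩ := (hgenI c v).mp hc
      refine ⟨c, ?_⟩
      show Projectivization.mk K (e (r c.1)) _ = _
      rw [Projectivization.mk_eq_mk_iff']
      refine ⟨l⁻¹, ?_⟩
      rw [← map_smul, hrH c.2, Prod.smul_mk, smul_zero, ← hl, smul_smul,
        inv_mul_cancel₀ (fun h => hv (by rw [← hl, h, zero_smul])), one_smul]
    · have hx : B.val (k⁻¹ • v) • q0 ∉ B.H := fun h => hq0 (by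
        have h2 := B.group_fix (inv_mem (B.val_mem (k⁻¹ • v))) h
        rw [inv_smul_smul] at h2
        rw [h2]; exact h)
      refine ⟨B.val (k⁻¹ • v) • q0, ?_⟩
      show Projectivization.mk K (e (r (B.val (k⁻¹ • v) • q0))) _ = _
      rw [Projectivization.mk_eq_mk_iff']
      refine ⟨k⁻¹, ?_⟩
      rw [← map_smul, hrA hx, ← truniq hx rfl, Prod.smul_mk, smul_eq_mul, inv_mul_cancel₀ hk]
  refine ⟨K, instK, instKf, n, hn, Equiv.ofBijective _ hbij, ?_⟩
  intro a b c hab
  set φ := Equiv.ofBijective _ hbij with hφdef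
  have hsub : ∀ x, (φ x).submodule = Submodule.span K {e (r x)} :=
    fun x => Projectivization.submodule_mk _ _
  set U := (φ a).submodule ⊔ (φ b).submodule with hU
  have hle : d.line a b ⊆ {x | (φ x).submodule ≤ U} := fun x hx => by
    show (φ x).submodule ≤ U
    rw [hU, hsub, hsub, hsub, Submodule.span_singleton_le_iff_mem, ← Submodule.span_union,
      Set.singleton_union]
    obtain ⟨α, β, h⟩ := Submodule.mem_span_pair.mp (hfwd hab hx)
    exact Submodule.mem_span_pair.mpr ⟨α, β, by rw [← map_smul, ← map_smul, ← map_add, h]⟩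
  have hK : Nat.card K = d.S a b := by
    obtain ⟨z, hz⟩ : ∃ z, z ∈ B.H := ⟨_, B.a0_mem⟩
    rw [← B.card_T hz hab]
    refine Nat.card_congr (Equiv.ofBijective
      (fun k : K => (⟨B.val (k • gen ⟨z, hz⟩), (hgenI ⟨z, hz⟩ _).mpr ⟨k, rfl⟩⟩ : B.T z))
      ⟨fun k l h => smul_left_injective K (hgen0 _) (B.val_inj (v := k • gen ⟨z, hz⟩) (w := l • gen ⟨z, hz⟩)
        (Subtype.mk.injEq _ _ _ _ ▸ h)),
        fun t => ?_⟩)
    obtain ⟨v, hv⟩ := B.exists_val (B.mem_group.mpr ⟨z, hz, t.2⟩)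
    obtain ⟨k, hk⟩ := (hgenI ⟨z, hz⟩ v).mp (show B.val v ∈ B.T z from hv ▸ t.2)
    exact ⟨k, Subtype.ext (show B.val (k • gen ⟨z, hz⟩) = t by rw [hk, hv])⟩
  have heq : d.line a b = {x | (φ x).submodule ≤ U} := by
    refine Set.eq_of_subset_of_ncard_le hle ?_
    rw [ncard_below φ U (finrank_sup fun h => hab (φ.injective h)), d.card_line hab, hK]
  exact Set.ext_iff.mp heq c

end Cfsg.Agent.Spor.ONan.Hyp.Base

namespace Cfsg.Agent.Spor.ONan.Hyp

variable {G X : Type*} [Group G] [Finite G] [MulAction G X] [FaithfulSMul G X] [Finite X]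
  [Nontrivial X] (d : Hyp G X)

/-- The space is a projective space over a finite field. -/
theorem exists_coord : ∃ (K : Type) (_ : Field K) (_ : Finite K) (n : ℕ), 3 ≤ n ∧
    ∃ φ : X ≃ Projectivization K (Fin n → K), d.IsCoord φ := by
  obtain ⟨a, b, hab⟩ := exists_pair_ne X
  obtain ⟨m, hm, hm1, -⟩ := d.move hab
  let B : d.Base := ⟨a, m, hm, hm1⟩
  by_cases hbig : ∀ b ∈ B.H, ∀ c ∈ B.H, b ≠ c → ∃ a ∈ B.H, a ∉ d.line b c
  · exact B.coord_big hbig
  push Not at hbig
  obtain ⟨b', hb, c', hc, hbc, hsub⟩ := hbig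
  refine d.coord_plane hbc ?_
  rw [show d.line b' c' = B.H from Set.Subset.antisymm (B.isHyp.closed hbc hb hc) hsub]
  exact B.isHyp

end Cfsg.Agent.Spor.ONan.Hyp
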