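import Mathlib

/-!
Automorphisms of a symmetric design fixing a block pointwise.
-/

set_option autoImplicit false
set_option linter.unusedSectionVars false
set_option linter.style.haveILetI false

namespace Cfsg.Agent.Spor.ONan

open Finset

/-- A symmetric design with a group of automorphisms. -/
structure SymDesign (G P Q : Type*) [Group G] [MulAction G P] [MulAction G Q] [DecidableEq P]
    [DecidableEq Q] where
  pts : Q → Finset P
  blk : P → Finset Q
  mem : ∀ {q x}, q ∈ blk x ↔ x ∈ pts q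
  smul : ∀ (g : G) {q x}, g • x ∈ pts (g • q) ↔ x ∈ pts q
  k : ℕ
  l : ℕ
  card_pts : ∀ q, (pts q).card = k
  card_blk : ∀ x, (blk x).card = k
  pts_inter : ∀ {q q'}, q ≠ q' → (pts q ∩ pts q').card = l
  blk_inter : ∀ {x y}, x ≠ y → (blk x ∩ blk y).card = l
  two_le : 2 ≤ k
  one_le : 1 ≤ l
  lt : l < k

namespace SymDesign

variable {G P Q : Type*} [Group G] [Finite G] [MulAction G P] [MulAction G Q] [DecidableEq P]
  [DecidableEq Q] [Fintype P] [Fintype Q] [FaithfulSMul G P] (D : SymDesign G P Q) (B : Q)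

include B in
theorem k_mul : D.k * (D.k - 1) = D.l * (Fintype.card P - 1) := by
  obtain ⟨x⟩ : Nonempty P := by
    obtain ⟨y, -⟩ := Finset.card_pos.mp
      (by rw [D.card_pts B]; have := D.two_le; omega : 0 < (D.pts B).card)
    exact ⟨y⟩
  have h := Finset.sum_card_bipartiteAbove_eq_sum_card_bipartiteBelow
    (s := D.blk x) (t := Finset.univ.erase x) (fun q y => y ∈ D.pts q)
  have h1 : ∀ q ∈ D.blk x, ((Finset.univ.erase x).bipartiteAbove (fun q y => y ∈ D.pts q) q).card =
      D.k - 1 := by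
    intro q hq
    rw [show (Finset.univ.erase x).bipartiteAbove (fun q y => y ∈ D.pts q) q = (D.pts q).erase x by
      ext y; simp [Finset.bipartiteAbove], Finset.card_erase_of_mem (D.mem.mp hq), D.card_pts]
  have h3 : ∀ y ∈ Finset.univ.erase x,
      ((D.blk x).bipartiteBelow (fun q y => y ∈ D.pts q) y).card = D.l := by
    intro y hy
    rw [show (D.blk x).bipartiteBelow (fun q y => y ∈ D.pts q) y = D.blk x ∩ D.blk y by
      ext q; simp [Finset.bipartiteBelow, D.mem], D.blk_inter (Finset.ne_of_mem_erase hy).symm]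
  rw [Finset.sum_congr rfl h1, Finset.sum_congr rfl h3, Finset.sum_const, Finset.sum_const,
    smul_eq_mul, smul_eq_mul, D.card_blk, Finset.card_erase_of_mem (Finset.mem_univ _),
    Finset.card_univ] at h
  rw [h, mul_comm]

variable {B}

/-- `σ` fixes the block `B` and all its points. -/
def FixesPtwise (σ : G) (B : Q) : Prop := σ • B = B ∧ ∀ x ∈ D.pts B, σ • x = x

variable {σ : G} (hσ : D.FixesPtwise σ B)
include hσ

theorem eq_of_common {C : Q} (hC : C ≠ B) {y : P} (hy : y ∈ D.pts C) (hy' : y ∈ D.pts (σ • C))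
    (hyB : y ∉ D.pts B) : σ • C = C := by
  by_contra hne
  have hsub : insert y (D.pts C ∩ D.pts B) ⊆ D.pts C ∩ D.pts (σ • C) := by
    intro z hz
    rcases Finset.mem_insert.mp hz with rfl | hz
    · exact Finset.mem_inter.mpr ⟨hy, hy'⟩
    · obtain ⟨hzC, hzB⟩ := Finset.mem_inter.mp hz
      refine Finset.mem_inter.mpr ⟨hzC, ?_⟩
      rw [← hσ.2 z hzB]
      exact (D.smul σ).mpr hzC
  have h := Finset.card_le_card hsub
  rw [Finset.card_insert_of_notMem (fun h => hyB (Finset.mem_inter.mp h).2), D.pts_inter hC,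
    D.pts_inter (Ne.symm hne)] at h
  omega

theorem fix_of_fix_point {p : P} (hp : σ • p = p) (hpB : p ∉ D.pts B) {C : Q} (hC : C ∈ D.blk p) :
    σ • C = C := by
  refine D.eq_of_common hσ (fun e => hpB (e ▸ D.mem.mp hC)) (D.mem.mp hC) ?_ hpB
  have := (D.smul σ).mpr (D.mem.mp hC)
  rwa [hp] at this

/-- An automorphism fixing a block pointwise fixes at most one point outside it. -/
theorem eq_one_of_two {p q : P} (hp : σ • p = p) (hpB : p ∉ D.pts B) (hq : σ • q = q)
    (hqB : q ∉ D.pts B) (hpq : p ≠ q) : σ = 1 := by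
  by_contra hne
  obtain ⟨x, hx⟩ : ∃ x : P, σ • x ≠ x := by
    by_contra h
    push Not at h
    exact hne (FaithfulSMul.eq_of_smul_eq_smul fun x : P => by rw [h x, one_smul])
  have key : ∀ {p x : P}, σ • p = p → p ∉ D.pts B → σ • x ≠ x →
      D.blk p ∩ D.blk x = D.blk x ∩ D.blk (σ • x) := by
    intro p x hp hpB hx
    have hpx : p ≠ x := fun e => hx (e ▸ hp)
    refine Finset.eq_of_subset_of_card_le (fun C hC => ?_) ?_
    · obtain ⟨h1, h2⟩ := Finset.mem_inter.mp hC
      refine Finset.mem_inter.mpr ⟨h2, D.mem.mpr ?_⟩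
      have := (D.smul σ).mpr (D.mem.mp h2)
      rwa [D.fix_of_fix_point hσ hp hpB h1] at this
    · rw [D.blk_inter hpx, D.blk_inter hx.symm]
  have hpqx : ∀ {p' x : P}, σ • p' = p' → p' ∉ D.pts B → σ • x ≠ x →
      D.blk p ∩ D.blk x ⊆ D.blk p' := fun hp' hp'B hx C hC =>
    (Finset.mem_inter.mp (((key hp hpB hx).trans (key hp' hp'B hx).symm).le hC)).1
  have hall : ∀ {x : P}, σ • x ≠ x → D.blk p ∩ D.blk x = D.blk p ∩ D.blk q := fun {x} hx =>
    Finset.eq_of_subset_of_card_le
      (fun C hC => Finset.mem_inter.mpr ⟨(Finset.mem_inter.mp hC).1, hpqx hq hqB hx hC⟩)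
      (by rw [D.blk_inter hpq, D.blk_inter (fun e : p = x => hx (e ▸ hp))])
  obtain ⟨C, hC⟩ := Finset.card_pos.mp
    (show 0 < (D.blk p ∩ D.blk q).card by rw [D.blk_inter hpq]; exact D.one_le)
  have hsub : (Finset.univ \ D.pts B) ⊆ D.pts C \ D.pts B := by
    intro y hy
    refine Finset.mem_sdiff.mpr ⟨D.mem.mp ?_, (Finset.mem_sdiff.mp hy).2⟩
    by_cases hy' : σ • y = y
    · rw [← hall hx] at hC
      exact hpqx hy' (Finset.mem_sdiff.mp hy).2 hx hC
    · rw [← hall hy'] at hC
      exact (Finset.mem_inter.mp hC).2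
  have hCB : C ≠ B := fun e => hpB (e ▸ D.mem.mp (Finset.mem_inter.mp hC).1)
  have h1 := Finset.card_le_card hsub
  have h2 : (D.pts C \ D.pts B).card + D.l = D.k := by
    rw [← D.pts_inter hCB, ← D.card_pts C]
    exact Finset.card_sdiff_add_card_inter _ _
  rw [Finset.card_univ_sdiff, D.card_pts] at h1
  have h3 : 2 ≤ Fintype.card P - D.k := by
    rw [← D.card_pts B, ← Finset.card_univ_sdiff]
    exact Finset.one_lt_card.mpr ⟨p, by simp [hpB], q, by simp [hqB], hpq⟩
  have h4 := D.k_mul B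
  have h5 := D.lt
  -- `v - k ≤ k - l` is incompatible with `k (k - 1) = l (v - 1)`
  have h6 : D.k * (D.k - 1) ≤ D.l * (2 * D.k - D.l - 1) := by
    rw [h4]; exact Nat.mul_le_mul_left _ (by omega)
  zify [show 1 ≤ D.k by omega, show D.l ≤ 2 * D.k by omega, show 1 ≤ 2 * D.k - D.l by omega] at h6
  have h7 : D.k - D.l ≤ 1 := by
    by_contra hcon
    have : (2 : ℤ) ≤ (D.k : ℤ) - D.l := by omega
    nlinarith
  omega

/-- In the semiregular case the fixed blocks are decided by their traces on `B`. -/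
theorem fixed_trace (hfree : ∀ x, x ∉ D.pts B → σ • x ≠ x)
    (hΦ : (Finset.univ.filter fun q : Q => σ • q = q).card = D.k) {C C' : Q} (hC : C ≠ B)
    (hC' : C' ≠ B) (h : D.pts C ∩ D.pts B = D.pts C' ∩ D.pts B) (hfix : σ • C = C) :
    σ • C' = C' := by
  set Φ := Finset.univ.filter fun q : Q => σ • q = q with hΦdef
  have hmov : ∀ x, x ∉ D.pts B → (Φ ∩ D.blk x).card = D.l := by
    intro x hx
    rw [← D.blk_inter (hfree x hx).symm]
    congr 1
    ext E
    simp only [hΦdef, Finset.mem_inter, Finset.mem_filter, Finset.mem_univ, true_and]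
    constructor
    · rintro ⟨hE, hEx⟩
      refine ⟨hEx, D.mem.mpr ?_⟩
      have := (D.smul σ).mpr (D.mem.mp hEx)
      rwa [hE] at this
    · rintro ⟨hEx, hEx'⟩
      refine ⟨?_, hEx⟩
      rcases eq_or_ne E B with rfl | hEB
      · exact hσ.1
      refine D.eq_of_common hσ hEB (D.mem.mp hEx') ((D.smul σ).mpr (D.mem.mp hEx)) ?_
      intro h'
      have := hσ.2 _ h'
      exact hfree x hx (smul_left_cancel σ this)
  have hsum : ∀ E : Q, ∑ x ∈ D.pts E, (Φ ∩ D.blk x).card =
      D.l * D.k + if E ∈ Φ then D.k - D.l else 0 := by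
    intro E
    have e1 : ∀ x, (Φ ∩ D.blk x).card = ∑ q ∈ Φ, if x ∈ D.pts q then 1 else 0 := fun x => by
      rw [← Finset.card_filter]
      congr 1
      ext q
      simp [D.mem]
    rw [Finset.sum_congr rfl fun x _ => e1 x, Finset.sum_comm]
    have e2 : ∀ q ∈ Φ, (∑ x ∈ D.pts E, if x ∈ D.pts q then 1 else 0) =
        D.l + if E = q then D.k - D.l else 0 := fun q _ => by
      rw [← Finset.card_filter, Finset.filter_mem_eq_inter]
      rcases eq_or_ne E q with rfl | hne
      · rw [Finset.inter_self, D.card_pts, if_pos rfl]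
        have := D.lt
        omega
      · rw [D.pts_inter hne, if_neg hne, add_zero]
    rw [Finset.sum_congr rfl e2, Finset.sum_add_distrib, Finset.sum_const, hΦ, smul_eq_mul,
      Finset.sum_ite_eq, mul_comm]
  have hsplit : ∀ E : Q, E ≠ B → ∑ x ∈ D.pts E, (Φ ∩ D.blk x).card =
      (∑ x ∈ D.pts E ∩ D.pts B, (Φ ∩ D.blk x).card) + (D.k - D.l) * D.l := by
    intro E hE
    rw [← Finset.sum_inter_add_sum_sdiff (D.pts E) (D.pts B),
      Finset.sum_congr rfl fun x hx => hmov x (Finset.mem_sdiff.mp hx).2, Finset.sum_const,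
      smul_eq_mul]
    congr 2
    have h1 := Finset.card_sdiff_add_card_inter (D.pts E) (D.pts B)
    rw [D.pts_inter hE, D.card_pts] at h1
    omega
  have e := hsplit C hC
  rw [h, ← hsplit C' hC', hsum, hsum, if_pos (by simp [hΦdef, hfix])] at e
  by_contra hne
  rw [if_neg (by simp [hΦdef, hne])] at e
  have := D.lt
  omega

omit hσ

/-- A semiregular group fixing a block pointwise, and no other block, is abelian. -/
theorem comm_of_semiregular (K : Subgroup G) (hK : ∀ s ∈ K, D.FixesPtwise s B)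
    (hfree : ∀ s ∈ K, s ≠ 1 → ∀ x, x ∉ D.pts B → s • x ≠ x)
    (hcount : ∀ g : G, Nat.card {x : P // g • x = x} = Nat.card {q : Q // g • q = q})
    (honly : ∀ C : Q, C ≠ B → ∃ s ∈ K, s • C ≠ C) :
    ∀ s ∈ K, ∀ t ∈ K, s * t = t * s := by
  classical
  let Φ : G → Finset Q := fun s => Finset.univ.filter fun q : Q => s • q = q
  have hmemΦ : ∀ {s : G} {q : Q}, q ∈ Φ s ↔ s • q = q := fun {s q} => by simp [Φ]
  have hcard : ∀ s ∈ K, s ≠ 1 → (Φ s).card = D.k := by
    intro s hs hs1
    rw [← D.card_pts B, ← Fintype.card_subtype, ← Nat.card_eq_fintype_card, ← hcount s,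
      Nat.card_eq_fintype_card, Fintype.card_subtype]
    congr 1
    ext x
    simp only [Finset.mem_filter, Finset.mem_univ, true_and]
    exact ⟨fun h => by_contra fun hx => hfree s hs hs1 x hx h, (hK s hs).2 x⟩
  have hnormal : ∀ s ∈ K, ∀ t ∈ K, ∀ C : Q, s • C = C → (t⁻¹ * s * t) • C = C := by
    intro s hs t ht C hC
    rcases eq_or_ne C B with rfl | hCB
    · rw [mul_smul, mul_smul, (hK t ht).1, (hK s hs).1, inv_smul_eq_iff, (hK t ht).1]
    rcases eq_or_ne s 1 with rfl | hs1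
    · simp
    rw [mul_smul, mul_smul, inv_smul_eq_iff]
    refine D.fixed_trace (hK s hs) (hfree s hs hs1) (hcard s hs hs1) hCB
      (fun e => hCB (smul_left_cancel t (e.trans (hK t ht).1.symm))) ?_ hC
    ext x
    simp only [Finset.mem_inter, and_congr_left_iff]
    intro hx
    rw [← D.smul t (q := C) (x := x), (hK t ht).2 x hx]
  have hΦeq : ∀ s ∈ K, ∀ t ∈ K, s * t ≠ t * s → Φ s = Φ t := by
    intro s hs t ht hne
    have hc1 : s * t * s⁻¹ * t⁻¹ ≠ 1 := fun e => hne (by
      rw [mul_inv_eq_one, mul_inv_eq_iff_eq_mul] at e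
      exact e)
    have hcK : s * t * s⁻¹ * t⁻¹ ∈ K :=
      mul_mem (mul_mem (mul_mem hs ht) (inv_mem hs)) (inv_mem ht)
    have h1 : Φ s = Φ (s * t * s⁻¹ * t⁻¹) := by
      refine Finset.eq_of_subset_of_card_le (fun C hC => hmemΦ.mpr ?_) ?_
      · have hC' := hmemΦ.mp hC
        have h2 := hnormal s⁻¹ (inv_mem hs) t⁻¹ (inv_mem ht) C (by rw [inv_smul_eq_iff, hC'])
        rw [inv_inv] at h2
        rw [show s * t * s⁻¹ * t⁻¹ = s * (t * s⁻¹ * t⁻¹) by group, mul_smul, h2, hC']
      · rw [hcard _ hcK hc1, hcard s hs (fun e => hne (by rw [e, one_mul, mul_one]))]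
    have h2 : Φ t = Φ (s * t * s⁻¹ * t⁻¹) := by
      refine Finset.eq_of_subset_of_card_le (fun C hC => hmemΦ.mpr ?_) ?_
      · have hC' := hmemΦ.mp hC
        have h2 := hnormal t ht s⁻¹ (inv_mem hs) C hC'
        rw [inv_inv] at h2
        rw [mul_smul, inv_smul_eq_iff.mpr hC'.symm, h2]
      · rw [hcard _ hcK hc1, hcard t ht (fun e => hne (by rw [e, one_mul, mul_one]))]
    rw [h1, h2]
  intro s hs t ht
  by_contra hne
  have hst := hΦeq s hs t ht hne
  have hs1 : s ≠ 1 := fun e => hne (by rw [e, one_mul, mul_one])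
  obtain ⟨C, hC, hCB⟩ := Finset.exists_mem_ne
    (show 1 < (Φ s).card by rw [hcard s hs hs1]; have := D.two_le; omega) B
  obtain ⟨r, hr, hrC⟩ := honly C hCB
  have hsC := hmemΦ.mp hC
  have hrs : r * s = s * r := by
    by_contra h
    exact hrC (hmemΦ.mp ((hΦeq r hr s hs h).symm ▸ hC))
  have hrsC : (r * s) • C ≠ C := by rwa [mul_smul, hsC]
  have hrt : r * t = t * r := by
    by_contra h
    exact hrC (hmemΦ.mp ((hΦeq r hr t ht h).symm ▸ (hst ▸ hC)))
  have h : (r * s) * t = t * (r * s) := by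
    by_contra h
    exact hrsC (hmemΦ.mp ((hΦeq _ (mul_mem hr hs) t ht h).symm ▸ (hst ▸ hC)))
  rw [← mul_assoc t, ← hrt, mul_assoc, mul_assoc] at h
  exact hne (mul_left_cancel h)

end SymDesign

end Cfsg.Agent.Spor.ONan
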