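import Mathlib

/-!
An intransitive subgroup of index equal to the degree of a doubly transitive group gives a second
doubly transitive action with the same numbers of fixed points.
-/

set_option autoImplicit false
set_option linter.unusedSectionVars false
set_option linter.style.haveILetI false

namespace Cfsg.Agent.Spor.ONan.Dual

variable {G Ω : Type*} [Group G] [Finite G] [MulAction G Ω] [Finite Ω]

/-- An injective equivariant incidence matrix between two sets of the same size forces equal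
numbers of fixed points. -/
theorem card_fix_eq {Q : Type*} [MulAction G Q] [Fintype Ω] [Fintype Q] [DecidableEq Ω]
    [DecidableEq Q] (hc : Fintype.card Q = Fintype.card Ω) (M : Matrix Q Ω ℚ)
    (hM : ∀ (g : G) q ω, M (g • q) (g • ω) = M q ω) (hinj : ∀ f : Ω → ℚ, M.mulVec f = 0 → f = 0)
    (g : G) : Nat.card {ω : Ω // g • ω = ω} = Nat.card {q : Q // g • q = q} := by
  let e : Ω ≃ Q := (Fintype.equivOfCardEq hc).symm
  let B : Matrix Ω Ω ℚ := M.submatrix e id
  let P : Matrix Ω Ω ℚ := Matrix.of fun i j => if g • j = i then 1 else 0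
  let R : Matrix Ω Ω ℚ := Matrix.of fun i j => if g • e j = e i then 1 else 0
  have hB : IsUnit B := by
    rw [← Matrix.mulVec_injective_iff_isUnit]
    intro f f' h
    refine sub_eq_zero.mp (hinj (f - f') ?_)
    funext q
    obtain ⟨i, rfl⟩ := e.surjective q
    have := congrFun h i
    rw [Matrix.mulVec_sub, Pi.sub_apply, Pi.zero_apply, sub_eq_zero]
    exact this
  have hcomm : R * B = B * P := by
    ext i j
    rw [Matrix.mul_apply, Matrix.mul_apply]
    rw [Finset.sum_eq_single (e.symm (g⁻¹ • e i)), Finset.sum_eq_single (g • j)]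
    · simp only [R, P, B, Matrix.of_apply, Matrix.submatrix_apply, id, e.apply_symm_apply,
        smul_inv_smul, if_true, one_mul, mul_one]
      rw [← hM g, smul_inv_smul]
    · intro k _ hk; simp [P, Ne.symm hk]
    · simp
    · intro k _ hk
      have : g • e k ≠ e i := fun h => hk (by rw [← h, inv_smul_smul, e.symm_apply_apply])
      simp [R, this]
    · simp
  have htr : R.trace = P.trace := by
    obtain ⟨u, hu⟩ := hB
    rw [← hu] at hcomm
    have : R = (u : Matrix Ω Ω ℚ) * P * (↑u⁻¹ : Matrix Ω Ω ℚ) := by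
      rw [← hcomm, mul_assoc, Units.mul_inv, mul_one]
    rw [this, Matrix.trace_units_conj]
  have hP : P.trace = (Nat.card {ω : Ω // g • ω = ω} : ℚ) := by
    simp [P, Matrix.trace, Fintype.card_subtype]
  have hR : R.trace = (Nat.card {q : Q // g • q = q} : ℚ) := by
    rw [← Nat.card_congr (e.subtypeEquiv (fun ω => Iff.rfl) : {ω : Ω // g • e ω = e ω} ≃ _)]
    simp [R, Matrix.trace, Fintype.card_subtype]
  rw [hR, hP] at htr
  exact_mod_cast htr.symm

theorem fix_count (h2 : MulAction.IsMultiplyPretransitive G Ω 2) (H : Subgroup G)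
    (hidx : H.index = Nat.card Ω) (hnt : ¬ MulAction.IsPretransitive H Ω) (g : G) :
    Nat.card {ω : Ω // g • ω = ω} = Nat.card {q : G ⧸ H // g • q = q} := by
  classical
  let _ := Fintype.ofFinite Ω
  let _ := Fintype.ofFinite (G ⧸ H)
  have h2' : ∀ {a b c d : Ω}, a ≠ b → c ≠ d → ∃ g : G, g • a = c ∧ g • b = d :=
    MulAction.is_two_pretransitive_iff.mp h2
  haveI : MulAction.IsPretransitive G Ω := MulAction.isPretransitive_of_is_two_pretransitive
  obtain ⟨a, b, hba⟩ : ∃ a b : Ω, b ∉ MulAction.orbit H a := by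
    by_contra hne
    push Not at hne
    exact hnt ⟨fun a b => hne a b⟩
  have hab : a ≠ b := fun e => hba (e ▸ MulAction.mem_orbit_self a)
  let M : Matrix (G ⧸ H) Ω ℚ := Matrix.of fun q ω =>
    if q.out⁻¹ • ω ∈ MulAction.orbit H a then 1 else 0
  have hMk : ∀ (x : G) ω, M (QuotientGroup.mk x) ω =
      if x⁻¹ • ω ∈ MulAction.orbit H a then 1 else 0 := by
    intro x ω
    simp only [M, Matrix.of_apply]
    refine if_congr ?_ rfl rfl
    have hm := QuotientGroup.eq.mp (QuotientGroup.out_eq' (QuotientGroup.mk x : G ⧸ H))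
    set y := (QuotientGroup.mk x : G ⧸ H).out
    have e : y⁻¹ • ω = (⟨y⁻¹ * x, hm⟩ : H) • (x⁻¹ • ω) := by
      rw [Subgroup.smul_def, ← mul_smul, mul_inv_cancel_right]
    rw [e]
    refine ⟨fun h => ?_, fun h => MulAction.mem_orbit_of_mem_orbit _ h⟩
    have h' := MulAction.mem_orbit_of_mem_orbit (⟨y⁻¹ * x, hm⟩ : H)⁻¹ h
    rwa [inv_smul_smul] at h'
  have hM : ∀ (g : G) q ω, M (g • q) (g • ω) = M q ω := fun g q ω => by
    obtain ⟨x, rfl⟩ := QuotientGroup.mk_surjective q
    rw [MulAction.Quotient.smul_mk, hMk, hMk, smul_eq_mul, mul_inv_rev, mul_smul, inv_smul_smul]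
  refine card_fix_eq ?_ M hM (fun f hf => ?_) g
  · rw [← Nat.card_eq_fintype_card, ← Nat.card_eq_fintype_card]
    exact hidx
  let C : Ω → Ω → ℚ := fun ω ω' => ∑ q, M q ω * M q ω'
  have hC : ∀ (g : G) ω ω', C (g • ω) (g • ω') = C ω ω' := fun g ω ω' => by
    simp only [C]
    rw [← Equiv.sum_comp (MulAction.toPerm g)]
    simp [hM]
  have hdiag : ∀ ω, C ω ω = C a a := fun ω => by
    obtain ⟨g, rfl⟩ := MulAction.exists_smul_eq G a ω
    exact hC g a a
  have hoff : ∀ ω ω', ω ≠ ω' → C ω ω' = C a b := fun ω ω' h => by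
    obtain ⟨g, rfl, rfl⟩ := h2' hab h
    exact hC g a b
  have h01 : ∀ q ω, M q ω = 0 ∨ M q ω = 1 := fun q ω => by
    simp only [M, Matrix.of_apply]
    split_ifs <;> simp
  have hlt : C a b < C a a := by
    refine Finset.sum_lt_sum (fun q _ => ?_) ⟨QuotientGroup.mk 1, Finset.mem_univ _, ?_⟩
    · rcases h01 q a with h | h <;> rcases h01 q b with h' | h' <;> simp [h, h']
    · simp [hMk, hba, MulAction.mem_orbit_self]
  have hnn : 0 ≤ C a b := Finset.sum_nonneg fun q _ => by
    rcases h01 q a with h | h <;> rcases h01 q b with h' | h' <;> simp [h, h']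
  have hzero : (∑ ω, ∑ ω', f ω * f ω' * C ω ω') = 0 := by
    have e : (∑ ω, ∑ ω', f ω * f ω' * C ω ω') = ∑ q, (M.mulVec f q) ^ 2 := by
      simp only [C, Matrix.mulVec, dotProduct, Finset.mul_sum, pow_two, Finset.sum_mul]
      rw [Finset.sum_comm_cycle]
      refine Finset.sum_congr rfl fun q _ => Finset.sum_congr rfl fun ω _ =>
        Finset.sum_congr rfl fun ω' _ => ?_
      ring
    rw [e, hf]; simp
  have e2 : (∑ ω, ∑ ω', f ω * f ω' * C ω ω') =
      C a b * (∑ ω, f ω) ^ 2 + (C a a - C a b) * ∑ ω, f ω ^ 2 := by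
    rw [pow_two, Finset.sum_mul_sum, Finset.mul_sum, Finset.mul_sum, ← Finset.sum_add_distrib]
    refine Finset.sum_congr rfl fun ω _ => ?_
    rw [Finset.mul_sum]
    have : ∀ ω', f ω * f ω' * C ω ω' =
        C a b * (f ω * f ω') + (if ω' = ω then (C a a - C a b) * f ω ^ 2 else 0) := by
      intro ω'
      split_ifs with h
      · subst h; rw [hdiag]; ring
      · rw [hoff ω ω' (Ne.symm h)]; ring
    rw [Finset.sum_congr rfl fun ω' _ => this ω', Finset.sum_add_distrib, Finset.sum_ite_eq']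
    simp
  rw [e2] at hzero
  have hs : ∑ ω, f ω ^ 2 = 0 := by
    have h1 : 0 ≤ ∑ ω, f ω ^ 2 := Finset.sum_nonneg fun ω _ => sq_nonneg _
    nlinarith [sq_nonneg (∑ ω, f ω)]
  funext ω
  exact pow_eq_zero_iff two_ne_zero |>.mp
    ((Finset.sum_eq_zero_iff_of_nonneg fun ω _ => sq_nonneg _).mp hs ω (Finset.mem_univ _))

theorem card_fixed_prod {G Y : Type*} [Group G] [MulAction G Y] (g : G)
    [Fintype (MulAction.fixedBy (Y × Y) g)] :
    Fintype.card (MulAction.fixedBy (Y × Y) g) = Nat.card {y : Y // g • y = y} ^ 2 := by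
  rw [← Nat.card_eq_fintype_card, pow_two, ← Nat.card_prod]
  exact Nat.card_congr ⟨fun w => (⟨w.1.1, congrArg Prod.fst w.2⟩, ⟨w.1.2, congrArg Prod.snd w.2⟩),
    fun w => ⟨(w.1.1, w.2.1), Prod.ext w.1.2 w.2.2⟩, fun _ => rfl, fun _ => rfl⟩

theorem two_trans (h2 : MulAction.IsMultiplyPretransitive G Ω 2) {Q : Type*} [MulAction G Q]
    [Finite Q] (hfix : ∀ g : G, Nat.card {ω : Ω // g • ω = ω} = Nat.card {q : Q // g • q = q}) :
    MulAction.IsMultiplyPretransitive G Q 2 := by
  classical
  let _ := Fintype.ofFinite G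
  let _ := Fintype.ofFinite Ω
  let _ := Fintype.ofFinite Q
  let _ := Fintype.ofFinite (MulAction.orbitRel.Quotient G (Ω × Ω))
  let _ := Fintype.ofFinite (MulAction.orbitRel.Quotient G (Q × Q))
  have hcard : Fintype.card (MulAction.orbitRel.Quotient G (Q × Q)) =
      Fintype.card (MulAction.orbitRel.Quotient G (Ω × Ω)) := by
    have h1 := MulAction.sum_card_fixedBy_eq_card_orbits_mul_card_group G (Q × Q)
    have h3 := MulAction.sum_card_fixedBy_eq_card_orbits_mul_card_group G (Ω × Ω)
    have h4 : (∑ g : G, Fintype.card (MulAction.fixedBy (Q × Q) g)) =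
        ∑ g : G, Fintype.card (MulAction.fixedBy (Ω × Ω) g) :=
      Finset.sum_congr rfl fun g _ => by rw [card_fixed_prod, card_fixed_prod, hfix]
    rw [h1, h3] at h4
    exact Nat.eq_of_mul_eq_mul_right Fintype.card_pos h4
  have hle : Fintype.card (MulAction.orbitRel.Quotient G (Ω × Ω)) ≤ 2 := by
    have h2' : ∀ {a b c d : Ω}, a ≠ b → c ≠ d → ∃ g : G, g • a = c ∧ g • b = d :=
      MulAction.is_two_pretransitive_iff.mp h2
    haveI : MulAction.IsPretransitive G Ω := MulAction.isPretransitive_of_is_two_pretransitive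
    refine le_of_le_of_eq (Fintype.card_le_of_injective
      (fun w : MulAction.orbitRel.Quotient G (Ω × Ω) =>
        decide (w.out.1 = w.out.2)) fun u v huv => ?_) Fintype.card_bool
    rw [← Quotient.out_eq u, ← Quotient.out_eq v]
    refine Quotient.sound ?_
    by_cases hu : u.out.1 = u.out.2
    · have hv : v.out.1 = v.out.2 := by simpa [hu] using huv
      obtain ⟨g, hg⟩ := MulAction.exists_smul_eq G v.out.1 u.out.1
      exact ⟨g, Prod.ext hg (by rw [Prod.smul_snd, ← hv, hg, hu])⟩
    · have hv : v.out.1 ≠ v.out.2 := fun h => by simp [hu, h] at huv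
      obtain ⟨g, hg, hg'⟩ := h2' hv hu
      exact ⟨g, Prod.ext hg hg'⟩
  rw [MulAction.is_two_pretransitive_iff]
  intro a b c e hab hce
  by_contra hne
  push Not at hne
  have h3 : 2 < Fintype.card (MulAction.orbitRel.Quotient G (Q × Q)) := by
    refine Fintype.two_lt_card_iff.mpr
      ⟨Quotient.mk'' (a, a), Quotient.mk'' (a, b), Quotient.mk'' (c, e), ?_, ?_, ?_⟩
    · intro h
      obtain ⟨g, hg⟩ := Quotient.eq''.mp h
      exact hab (smul_left_cancel g ((congrArg Prod.fst hg).trans (congrArg Prod.snd hg).symm))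
    · intro h
      obtain ⟨g, hg⟩ := Quotient.eq''.mp h
      exact hce (smul_left_cancel g ((congrArg Prod.fst hg).trans (congrArg Prod.snd hg).symm))
    · intro h
      obtain ⟨g, hg⟩ := Quotient.eq''.mp h.symm
      exact hne g (congrArg Prod.fst hg) (congrArg Prod.snd hg)
  omega

theorem faithful [FaithfulSMul G Ω] {Q : Type*} [MulAction G Q] [Finite Q]
    (hc : Nat.card Q = Nat.card Ω)
    (hfix : ∀ g : G, Nat.card {ω : Ω // g • ω = ω} = Nat.card {q : Q // g • q = q}) :
    FaithfulSMul G Q := by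
  refine faithfulSMul_iff.2 fun g hg => ?_
  refine FaithfulSMul.eq_of_smul_eq_smul fun ω : Ω => ?_
  rw [one_smul]
  have h := hfix g
  rw [Nat.card_congr (Equiv.subtypeUnivEquiv hg), hc] at h
  have hb := ((Nat.bijective_iff_injective_and_card
    (Subtype.val : {ω : Ω // g • ω = ω} → Ω)).mpr ⟨Subtype.val_injective, h⟩).2 ω
  obtain ⟨⟨w, hw⟩, rfl⟩ := hb
  exact hw

end Cfsg.Agent.Spor.ONan.Dual
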