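import Cfsg.Agent.Lib.Spor.ONan.Design
import Cfsg.Agent.Lib.Spor.ONan.Dual

/-!
The symmetric design of an intransitive subgroup of index equal to the degree.
-/

set_option autoImplicit false
set_option linter.unusedSectionVars false
set_option linter.style.haveILetI false

namespace Cfsg.Agent.Spor.ONan

open Finset

theorem sum_inter {A B : Type*} [DecidableEq A] [DecidableEq B] [Fintype B] (f : A → Finset B)
    (g : B → Finset A) (hfg : ∀ {a b}, a ∈ g b ↔ b ∈ f a) {k l : ℕ} (hf : ∀ a, (f a).card = k)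
    (hg : ∀ b, (g b).card = k) (hl : ∀ {b b'}, b ≠ b' → (g b ∩ g b').card = l) (b : B) :
    k * (k - 1) = l * (Fintype.card B - 1) := by
  have h := Finset.sum_card_bipartiteAbove_eq_sum_card_bipartiteBelow
    (s := g b) (t := Finset.univ.erase b) (fun a c => c ∈ f a)
  have h1 : ∀ a ∈ g b, ((Finset.univ.erase b).bipartiteAbove (fun a c => c ∈ f a) a).card =
      k - 1 := by
    intro a ha
    rw [show (Finset.univ.erase b).bipartiteAbove (fun a c => c ∈ f a) a = (f a).erase b by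
      ext c; simp [Finset.bipartiteAbove], Finset.card_erase_of_mem (hfg.mp ha), hf]
  have h3 : ∀ c ∈ Finset.univ.erase b,
      ((g b).bipartiteBelow (fun a c => c ∈ f a) c).card = l := by
    intro c hc
    rw [show (g b).bipartiteBelow (fun a c => c ∈ f a) c = g b ∩ g c by
      ext a; simp [Finset.bipartiteBelow, hfg], hl (Finset.ne_of_mem_erase hc).symm]
  rw [Finset.sum_congr rfl h1, Finset.sum_congr rfl h3, Finset.sum_const, Finset.sum_const,
    smul_eq_mul, smul_eq_mul, hg, Finset.card_erase_of_mem (Finset.mem_univ _),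
    Finset.card_univ] at h
  rw [h, mul_comm]

variable {G Ω : Type*} [Group G] [Finite G] [MulAction G Ω] [Fintype Ω] [DecidableEq Ω]

theorem exists_design (h2 : MulAction.IsMultiplyPretransitive G Ω 2) (H : Subgroup G)
    [Fintype (G ⧸ H)] [DecidableEq (G ⧸ H)]
    (hidx : H.index = Nat.card Ω) (hnt : ¬ MulAction.IsPretransitive H Ω) (a : Ω)
    (ha : ∃ h : H, h • a ≠ a) :
    ∃ D : SymDesign G Ω (G ⧸ H), ∀ x : Ω,
      x ∈ D.pts ((1 : G) : G ⧸ H) ↔ x ∈ MulAction.orbit H a := by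
  classical
  have h2' : ∀ {a b c d : Ω}, a ≠ b → c ≠ d → ∃ g : G, g • a = c ∧ g • b = d :=
    MulAction.is_two_pretransitive_iff.mp h2
  have hQ := Dual.two_trans h2 (Dual.fix_count h2 H hidx hnt)
  have hQ' : ∀ {a b c d : G ⧸ H}, a ≠ b → c ≠ d → ∃ g : G, g • a = c ∧ g • b = d :=
    MulAction.is_two_pretransitive_iff.mp hQ
  haveI : MulAction.IsPretransitive G Ω := MulAction.isPretransitive_of_is_two_pretransitive
  let pts : G ⧸ H → Finset Ω := fun q =>
    Finset.univ.filter fun ω => q.out⁻¹ • ω ∈ MulAction.orbit H a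
  let blk : Ω → Finset (G ⧸ H) := fun x => Finset.univ.filter fun q => x ∈ pts q
  have hmk : ∀ (x : G) ω, ω ∈ pts (QuotientGroup.mk x) ↔ x⁻¹ • ω ∈ MulAction.orbit H a := by
    intro x ω
    simp only [pts, Finset.mem_filter, Finset.mem_univ, true_and]
    have hm := QuotientGroup.eq.mp (QuotientGroup.out_eq' (QuotientGroup.mk x : G ⧸ H))
    set y := (QuotientGroup.mk x : G ⧸ H).out
    have e : y⁻¹ • ω = (⟨y⁻¹ * x, hm⟩ : H) • (x⁻¹ • ω) := by
      rw [Subgroup.smul_def, ← mul_smul, mul_inv_cancel_right]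
    rw [e]
    refine ⟨fun h => ?_, fun h => MulAction.mem_orbit_of_mem_orbit _ h⟩
    have h' := MulAction.mem_orbit_of_mem_orbit (⟨y⁻¹ * x, hm⟩ : H)⁻¹ h
    rwa [inv_smul_smul] at h'
  have hmem : ∀ {q x}, q ∈ blk x ↔ x ∈ pts q := by simp [blk]
  have hsmul : ∀ (g : G) {q x}, g • x ∈ pts (g • q) ↔ x ∈ pts q := fun g {q x} => by
    obtain ⟨y, rfl⟩ := QuotientGroup.mk_surjective q
    rw [MulAction.Quotient.smul_mk, hmk, hmk, smul_eq_mul, mul_inv_rev, mul_smul, inv_smul_smul]
  have hsmulb : ∀ (g : G) {q x}, g • q ∈ blk (g • x) ↔ q ∈ blk x := fun g => by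
    intro q x; rw [hmem, hmem]; exact hsmul g
  have himg : ∀ (g : G) q, pts (g • q) = (pts q).image (g • ·) := fun g q => by
    ext x
    rw [Finset.mem_image]
    exact ⟨fun h => ⟨g⁻¹ • x, (hsmul g).mp (by rwa [smul_inv_smul]), smul_inv_smul g x⟩,
      fun ⟨y, hy, e⟩ => e ▸ (hsmul g).mpr hy⟩
  have himgb : ∀ (g : G) x, blk (g • x) = (blk x).image (g • ·) := fun g x => by
    ext q
    rw [Finset.mem_image]
    exact ⟨fun h => ⟨g⁻¹ • q, (hsmulb g).mp (by rwa [smul_inv_smul]), smul_inv_smul g q⟩,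
      fun ⟨y, hy, e⟩ => e ▸ (hsmulb g).mpr hy⟩
  have hk : ∀ q, (pts q).card = (pts ((1 : G) : G ⧸ H)).card := fun q => by
    obtain ⟨g, rfl⟩ := MulAction.exists_smul_eq G ((1 : G) : G ⧸ H) q
    rw [himg, Finset.card_image_of_injective _ (MulAction.injective g)]
  have hr : ∀ x, (blk x).card = (blk a).card := fun x => by
    obtain ⟨g, rfl⟩ := MulAction.exists_smul_eq G a x
    rw [himgb, Finset.card_image_of_injective _ (MulAction.injective g)]
  have hv : Fintype.card (G ⧸ H) = Fintype.card Ω := by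
    rw [← Nat.card_eq_fintype_card, ← Nat.card_eq_fintype_card]; exact hidx
  have hkr : (blk a).card = (pts ((1 : G) : G ⧸ H)).card := by
    have h := Finset.sum_card_bipartiteAbove_eq_sum_card_bipartiteBelow
      (s := (Finset.univ : Finset (G ⧸ H))) (t := (Finset.univ : Finset Ω)) (fun q x => x ∈ pts q)
    have ea : ∀ q ∈ (Finset.univ : Finset (G ⧸ H)),
        ((Finset.univ : Finset Ω).bipartiteAbove (fun q x => x ∈ pts q) q).card =
          (pts ((1 : G) : G ⧸ H)).card := fun q _ => by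
      rw [← hk q]; congr 1; ext x; simp [Finset.bipartiteAbove]
    have eb : ∀ x ∈ (Finset.univ : Finset Ω),
        ((Finset.univ : Finset (G ⧸ H)).bipartiteBelow (fun q x => x ∈ pts q) x).card =
          (blk a).card := fun x _ => by
      rw [← hr x]; congr 1
    rw [Finset.sum_congr rfl ea, Finset.sum_congr rfl eb,
      Finset.sum_const, Finset.sum_const, Finset.card_univ, Finset.card_univ, hv, smul_eq_mul,
      smul_eq_mul] at h
    exact (Nat.eq_of_mul_eq_mul_left (Fintype.card_pos_iff.mpr ⟨a⟩) h).symm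
  obtain ⟨h₀, hh₀⟩ := ha
  have hne : a ≠ h₀ • a := Ne.symm hh₀
  have hl : ∀ {x y : Ω}, x ≠ y →
      (blk x ∩ blk y).card = (blk a ∩ blk (h₀ • a)).card := by
    intro x y hxy
    obtain ⟨g, rfl, rfl⟩ := h2' hne hxy
    rw [himgb, himgb, ← Finset.image_inter _ _ (MulAction.injective g),
      Finset.card_image_of_injective _ (MulAction.injective g)]
  have ha1 : ∀ x : Ω, x ∈ pts ((1 : G) : G ⧸ H) ↔ x ∈ MulAction.orbit H a := fun x => by
    rw [hmk, inv_one, one_smul]
  obtain ⟨c, hc⟩ : ∃ c, c ∉ MulAction.orbit H a := by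
    by_contra hall
    push Not at hall
    exact hnt ⟨fun x y => MulAction.mem_orbit_iff.mp
      (MulAction.orbit_eq_iff.mpr (hall x) ▸ hall y)⟩
  have h2k : 2 ≤ (pts ((1 : G) : G ⧸ H)).card :=
    Finset.one_lt_card.mpr ⟨a, (ha1 a).mpr (MulAction.mem_orbit_self a), h₀ • a,
      (ha1 _).mpr (MulAction.mem_orbit a h₀), hne⟩
  have hkv : (pts ((1 : G) : G ⧸ H)).card < Fintype.card Ω :=
    Finset.card_lt_univ_of_notMem (x := c) fun h => hc ((ha1 c).mp h)
  obtain ⟨q₁, hq₁⟩ : ∃ q : G ⧸ H, q ≠ ((1 : G) : G ⧸ H) :=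
    Fintype.exists_ne_of_one_lt_card (by omega) _
  have hm : ∀ {q q' : G ⧸ H}, q ≠ q' →
      (pts q ∩ pts q').card = (pts q₁ ∩ pts ((1 : G) : G ⧸ H)).card := by
    intro q q' hqq
    obtain ⟨g, rfl, rfl⟩ := hQ' hq₁ hqq
    rw [himg, himg, ← Finset.image_inter _ _ (MulAction.injective g),
      Finset.card_image_of_injective _ (MulAction.injective g)]
  have e1 := sum_inter pts blk hmem hk (fun x => (hr x).trans hkr) hl a
  have e2 := sum_inter blk pts (fun {x q} => hmem.symm) (fun x => (hr x).trans hkr) hk hm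
    ((1 : G) : G ⧸ H)
  rw [hv] at e2
  have heq : (pts q₁ ∩ pts ((1 : G) : G ⧸ H)).card = (blk a ∩ blk (h₀ • a)).card :=
    Nat.eq_of_mul_eq_mul_right (by omega) (e2.symm.trans e1)
  refine ⟨{
    pts := pts
    blk := blk
    mem := hmem
    smul := hsmul
    k := (pts ((1 : G) : G ⧸ H)).card
    l := (blk a ∩ blk (h₀ • a)).card
    card_pts := hk
    card_blk := fun x => (hr x).trans hkr
    pts_inter := fun h => (hm h).trans heq
    blk_inter := hl
    two_le := h2k
    one_le := ?_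
    lt := ?_ }, ha1⟩
  · by_contra h
    have h0 : (blk a ∩ blk (h₀ • a)).card = 0 := by omega
    rw [h0, zero_mul] at e1
    rcases Nat.mul_eq_zero.mp e1 with h' | h' <;> omega
  · by_contra h
    have h1 : (pts ((1 : G) : G ⧸ H)).card * (Fintype.card Ω - 1) ≤
        (pts ((1 : G) : G ⧸ H)).card * ((pts ((1 : G) : G ⧸ H)).card - 1) := by
      rw [e1]; exact Nat.mul_le_mul_right _ (by omega)
    have := Nat.le_of_mul_le_mul_left h1 (by omega)
    omega

end Cfsg.Agent.Spor.ONan
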