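import Cfsg.Agent.Lib.Spor.ONan.CoordBig
import Cfsg.Agent.Lib.Classical.SLGroup

/-!
The family consists of elations, and it contains all of them.
-/

set_option autoImplicit false
set_option linter.unusedSectionVars false
set_option linter.style.haveILetI false

namespace Cfsg.Agent.Spor.ONan

open Module (Dual)
open scoped LinearAlgebra.Projectivization

section Linear

variable {K : Type} [Field K] {n : ℕ}

theorem functional_apply (f : Dual K (Fin n → K)) (x : Fin n → K) :
    ((fun i => f (Pi.single i 1)) ⬝ᵥ x) = f x := by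
  rw [LinearMap.pi_apply_eq_sum_univ f x, dotProduct]
  refine Finset.sum_congr rfl fun i _ => ?_
  rw [smul_eq_mul, mul_comm]
  congr 2
  ext j
  rw [Pi.single_apply]
  simp only [eq_comm (a := j)]

/-- The transvection `x ↦ x + f x • v`. -/
def tsl (v : Fin n → K) (f : Dual K (Fin n → K)) (hf : f v = 0) :
    Matrix.SpecialLinearGroup (Fin n) K :=
  ⟨1 + Matrix.replicateCol Unit v * Matrix.replicateRow Unit (fun i => f (Pi.single i 1)), by
    rw [Matrix.det_one_add_replicateCol_mul_replicateRow, functional_apply, hf, add_zero]⟩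

theorem tsl_mulVec (v : Fin n → K) (f : Dual K (Fin n → K)) (hf : f v = 0) (x : Fin n → K) :
    (tsl v f hf : Matrix (Fin n) (Fin n) K).mulVec x = x + f x • v := by
  ext i
  simp only [tsl, Matrix.add_mulVec, Matrix.one_mulVec, Pi.add_apply, Pi.smul_apply, smul_eq_mul]
  congr 1
  rw [← functional_apply f x, ← Matrix.mulVec_mulVec]
  simp [Matrix.mulVec, dotProduct, mul_comm]

theorem tsl_scale (v : Fin n → K) (f : Dual K (Fin n → K)) (c : K) (h1 : f (c • v) = 0)
    (h2 : (c • f) v = 0) : tsl (c • v) f h1 = tsl v (c • f) h2 := by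
  refine Subtype.ext (Matrix.ext_iff_mulVec.2 fun x => ?_)
  rw [tsl_mulVec, tsl_mulVec, smul_smul, LinearMap.smul_apply, smul_eq_mul, mul_comm]

theorem add_ne_zero' {v x : Fin n → K} {f : Dual K (Fin n → K)} (hf : f v = 0) (hx : x ≠ 0) :
    x + f x • v ≠ 0 := fun h => by
  have hfx : f x = 0 := by
    have := congrArg f h
    simpa [hf] using this
  exact hx (by simpa [hfx] using h)

/-- The permutation of the points given by a transvection. -/
noncomputable def tperm (v : Fin n → K) (f : Dual K (Fin n → K)) (hf : f v = 0) :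
    Equiv.Perm (ℙ K (Fin n → K)) :=
  MulAction.toPermHom (Matrix.SpecialLinearGroup (Fin n) K) (ℙ K (Fin n → K)) (tsl v f hf)

theorem tperm_mk (v : Fin n → K) (f : Dual K (Fin n → K)) (hf : f v = 0) (x : Fin n → K)
    (hx : x ≠ 0) : tperm v f hf (Projectivization.mk K x hx) =
      Projectivization.mk K (x + f x • v) (add_ne_zero' hf hx) := by
  show tsl v f hf • Projectivization.mk K x hx = _
  rw [Projectivization.matrixSpecialLinearGroup_smul_def, Projectivization.smul_mk,
    Projectivization.mk_eq_mk_iff']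
  refine ⟨1, ?_⟩
  rw [one_smul]
  exact (tsl_mulVec v f hf x).symm

theorem tsl_mul (v : Fin n → K) (f g : Dual K (Fin n → K)) (hf : f v = 0) (hg : g v = 0) :
    tsl v f hf * tsl v g hg = tsl v (f + g) (by simp [hf, hg]) := by
  refine Subtype.ext (Matrix.ext_iff_mulVec.2 fun x => ?_)
  rw [Matrix.SpecialLinearGroup.coe_mul, ← Matrix.mulVec_mulVec, tsl_mulVec, tsl_mulVec,
    tsl_mulVec, map_add, map_smul, hf, LinearMap.add_apply]
  module

theorem tperm_inj {v : Fin n → K} {f g : Dual K (Fin n → K)} (hf : f v = 0) (hg : g v = 0)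
    (hv : v ≠ 0) (h : tperm v f hf = tperm v g hg) : f = g := by
  refine LinearMap.ext fun x => ?_
  by_cases hx : x ∈ Submodule.span K {v}
  · obtain ⟨c, rfl⟩ := Submodule.mem_span_singleton.mp hx
    simp [hf, hg]
  have hx0 : x ≠ 0 := fun e => hx (e ▸ zero_mem _)
  have h1 := congrArg (fun σ : Equiv.Perm _ => σ (Projectivization.mk K x hx0)) h
  simp only [tperm_mk, Projectivization.mk_eq_mk_iff'] at h1
  obtain ⟨k, hk⟩ := h1
  have h2 : (k - 1) • x = (f x - k * g x) • v := by
    rw [smul_add, smul_smul] at hk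
    rw [sub_smul, sub_smul, one_smul, eq_sub_iff_add_eq, sub_add_eq_add_sub, hk]
    abel
  have hk1 : k = 1 := by
    by_contra hne
    refine hx (Submodule.mem_span_singleton.mpr ⟨(k - 1)⁻¹ * (f x - k * g x), ?_⟩)
    rw [← smul_smul, ← h2, smul_smul, inv_mul_cancel₀ (sub_ne_zero.mpr hne), one_smul]
  subst hk1
  rw [sub_self, zero_smul, one_mul, eq_comm, smul_eq_zero, or_iff_left hv, sub_eq_zero] at h2
  exact h2

theorem submodule_le_iff {x y z : Fin n → K} (hx : x ≠ 0) (hy : y ≠ 0) (hz : z ≠ 0) :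
    (Projectivization.mk K z hz).submodule ≤
        (Projectivization.mk K x hx).submodule ⊔ (Projectivization.mk K y hy).submodule ↔
      ∃ α β : K, α • x + β • y = z := by
  rw [Projectivization.submodule_mk, Projectivization.submodule_mk, Projectivization.submodule_mk,
    Submodule.span_singleton_le_iff_mem, ← Submodule.span_union, Set.singleton_union,
    Submodule.mem_span_pair]

end Linear

namespace Hyp

variable {G X : Type*} [Group G] [Finite G] [MulAction G X] [FaithfulSMul G X] [Finite X]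
  [Nontrivial X] (d : Hyp G X) {K : Type} [Field K] [Finite K] {n : ℕ}
  {φ : X ≃ ℙ K (Fin n → K)}

variable (φ) in
/-- The action in coordinates. -/
def rho : G →* Equiv.Perm (ℙ K (Fin n → K)) :=
  φ.permCongrHom.toMonoidHom.comp (MulAction.toPermHom G X)

theorem rho_apply (g : G) (x : X) : rho φ g (φ x) = φ (g • x) := by
  simp [rho]

theorem rho_injective : Function.Injective (rho φ (G := G)) := fun g g' h =>
  FaithfulSMul.eq_of_smul_eq_smul fun x : X => φ.injective (by rw [← rho_apply, h, rho_apply])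

variable (hφ : d.IsCoord φ)
include hφ

theorem rho_col (g : G) {p q r : ℙ K (Fin n → K)} (hpq : p ≠ q)
    (h : r.submodule ≤ p.submodule ⊔ q.submodule) :
    (rho φ g r).submodule ≤ (rho φ g p).submodule ⊔ (rho φ g q).submodule := by
  obtain ⟨a, rfl⟩ := φ.surjective p
  obtain ⟨b, rfl⟩ := φ.surjective q
  obtain ⟨c, rfl⟩ := φ.surjective r
  have hab : a ≠ b := fun e => hpq (e ▸ rfl)
  rw [rho_apply, rho_apply, rho_apply, ← hφ fun e => hab (smul_left_cancel g e), d.smul_mem_line]
  exact (hφ hab).mpr h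

theorem S_eq_card {a b : X} (hab : a ≠ b) : d.S a b = Nat.card K := by
  have h := ncard_below φ _ (finrank_sup fun e => hab (φ.injective e))
  have h2 : d.line a b = {x | (φ x).submodule ≤ (φ a).submodule ⊔ (φ b).submodule} :=
    Set.ext fun x => hφ hab
  rw [← h2, d.card_line hab] at h
  omega

variable (hn : 3 ≤ n)
include hn

/-- Every element of the family is an elation. -/
theorem exists_elation {a : X} {g : G} (hg : g ∈ d.N a) (hg1 : g ≠ 1) {v₀ : Fin n → K}
    (hv₀ : v₀ ≠ 0) (ha : φ a = Projectivization.mk K v₀ hv₀) :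
    ∃ (f : Dual K (Fin n → K)) (hf : f v₀ = 0), rho φ g = tperm v₀ f hf := by
  classical
  set H := {x : X | g • x = x} with hH
  have hHyp : d.IsHyp H := d.fix_isHyp hg hg1
  have hmem : ∀ x : X, x ∈ H ↔ rho φ g (φ x) = φ x := fun x => by
    rw [rho_apply]; exact φ.injective.eq_iff.symm
  let W : Submodule K (Fin n → K) :=
    { carrier := {x | ∀ h : x ≠ 0, rho φ g (Projectivization.mk K x h) = Projectivization.mk K x h}
      zero_mem' := fun h => absurd rfl h
      smul_mem' := fun c x hx h => by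
        have hx0 : x ≠ 0 := fun e => h (by rw [e, smul_zero])
        have : Projectivization.mk K (c • x) h = Projectivization.mk K x hx0 :=
          (Projectivization.mk_eq_mk_iff' K _ _ _ _).mpr ⟨c, rfl⟩
        rw [this]
        exact hx hx0
      add_mem' := fun {x y} hx hy h => by
        rcases eq_or_ne x 0 with rfl | hx0
        · simp only [zero_add] at h ⊢; exact hy h
        rcases eq_or_ne y 0 with rfl | hy0
        · simp only [add_zero] at h ⊢; exact hx h
        by_cases he : Projectivization.mk K x hx0 = Projectivization.mk K y hy0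
        · obtain ⟨c, hc⟩ := (Projectivization.mk_eq_mk_iff' K _ _ _ _).mp he
          have : Projectivization.mk K (x + y) h = Projectivization.mk K y hy0 :=
            (Projectivization.mk_eq_mk_iff' K _ _ _ _).mpr ⟨c + 1, by rw [add_smul, hc, one_smul]⟩
          rw [this]
          exact hy hy0
        obtain ⟨b, hb⟩ := φ.surjective (Projectivization.mk K x hx0)
        obtain ⟨c, hc⟩ := φ.surjective (Projectivization.mk K y hy0)
        obtain ⟨e, hee⟩ := φ.surjective (Projectivization.mk K (x + y) h)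
        have hbc : b ≠ c := fun h => he (by rw [← hb, ← hc, h])
        rw [← hee, ← hmem]
        refine hHyp.closed hbc ((hmem b).mpr (hb ▸ hx hx0)) ((hmem c).mpr (hc ▸ hy hy0))
          ((hφ hbc).mpr ?_)
        rw [hb, hc, hee, submodule_le_iff]
        exact ⟨1, 1, by simp⟩ }
  have hWmem : ∀ {x : Fin n → K} (h : x ≠ 0), x ∈ W ↔ φ.symm (Projectivization.mk K x h) ∈ H :=
    fun {x} h => by
      rw [hmem, φ.apply_symm_apply]
      exact ⟨fun hx => hx h, fun hx _ => hx⟩
  obtain ⟨p, hp⟩ := hHyp.proper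
  obtain ⟨q, hq, hpq⟩ : ∃ (q : Fin n → K) (hq : q ≠ 0), Projectivization.mk K q hq = φ p :=
    ⟨_, (φ p).rep_nonzero, Projectivization.mk_rep _⟩
  have hqW : q ∉ W := fun h => hp (by
    have := (hWmem hq).mp h
    rwa [hpq, φ.symm_apply_apply] at this)
  have hv₀W : v₀ ∈ W := (hWmem hv₀).mpr (by rw [← ha, φ.symm_apply_apply]; exact d.fix hg)
  -- `W` is a hyperplane
  have hdec : ∀ x, ∃ w ∈ W, ∃ c : K, x = w + c • q := by
    intro x
    by_cases hx : x ∈ W
    · exact ⟨x, hx, 0, by simp⟩
    have hx0 : x ≠ 0 := fun e => hx (e ▸ W.zero_mem)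
    by_cases he : Projectivization.mk K x hx0 = Projectivization.mk K q hq
    · obtain ⟨c, hc⟩ := (Projectivization.mk_eq_mk_iff' K _ _ _ _).mp he
      exact ⟨0, W.zero_mem, c, by rw [hc, zero_add]⟩
    obtain ⟨r, hr, hrH⟩ := hHyp.meet (a := φ.symm (Projectivization.mk K x hx0))
      (b := φ.symm (Projectivization.mk K q hq)) fun e => he (φ.symm.injective e)
    obtain ⟨z, hz, hzr⟩ : ∃ (z : Fin n → K) (hz : z ≠ 0), Projectivization.mk K z hz = φ r :=
      ⟨_, (φ r).rep_nonzero, Projectivization.mk_rep _⟩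
    have hzW : z ∈ W := (hWmem hz).mpr (by rw [hzr, φ.symm_apply_apply]; exact hrH)
    rw [hφ fun e => he (φ.symm.injective e), φ.apply_symm_apply, φ.apply_symm_apply, ← hzr,
      submodule_le_iff] at hr
    obtain ⟨α, β, hz'⟩ := hr
    have hα : α ≠ 0 := fun h => by
      rw [h, zero_smul, zero_add] at hz'
      have hβ : β ≠ 0 := fun e => hz (by rw [← hz', e, zero_smul])
      exact hqW (by
        rw [show q = β⁻¹ • z by rw [← hz', smul_smul, inv_mul_cancel₀ hβ, one_smul]]
        exact W.smul_mem _ hzW)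
    refine ⟨α⁻¹ • z, W.smul_mem _ hzW, -(α⁻¹ * β), ?_⟩
    rw [← hz', smul_add, smul_smul, inv_mul_cancel₀ hα, one_smul, neg_smul, smul_smul]
    abel
  obtain ⟨f0, hf0q, hf0W⟩ := Submodule.exists_dual_map_eq_bot_of_notMem hqW inferInstance
  have hf0W' : ∀ w ∈ W, f0 w = 0 := fun w hw =>
    (Submodule.mem_bot K).mp (hf0W.le (Submodule.mem_map_of_mem hw))
  set f : Dual K (Fin n → K) := (f0 q)⁻¹ • f0 with hf
  have hfW : ∀ w ∈ W, f w = 0 := fun w hw => by simp [hf, hf0W' w hw]
  have hfq : f q = 1 := by simp [hf, hf0q]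
  have hker : ∀ x, f x = 0 → x ∈ W := fun x hx => by
    obtain ⟨w, hw, c, rfl⟩ := hdec x
    rw [map_add, hfW w hw, map_smul, hfq, zero_add, smul_eq_mul, mul_one] at hx
    simpa [hx] using hw
  have hgfix : ∀ {w : Fin n → K} (h : w ≠ 0), f w = 0 →
      rho φ g (Projectivization.mk K w h) = Projectivization.mk K w h :=
    fun {w} h hw => hker w hw h
  -- the image of `q`
  obtain ⟨c, hc⟩ : ∃ c : K, ∀ h : q + c • v₀ ≠ 0,
      rho φ g (Projectivization.mk K q hq) = Projectivization.mk K (q + c • v₀) h := by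
    have hap : a ≠ p := fun e => hp (e ▸ d.fix hg)
    have h1 := (hφ hap).mp (d.line_inv hg (d.right_mem hap))
    rw [← rho_apply g p, ha, ← hpq] at h1
    obtain ⟨z, hz, hzr⟩ : ∃ (z : Fin n → K) (hz : z ≠ 0),
        Projectivization.mk K z hz = rho φ g (Projectivization.mk K q hq) :=
      ⟨_, (rho φ g _).rep_nonzero, Projectivization.mk_rep _⟩
    rw [← hzr, submodule_le_iff] at h1
    obtain ⟨α, β, hz'⟩ := h1
    have hβ : β ≠ 0 := fun h => by
      rw [h, zero_smul, add_zero] at hz'
      have h2 : rho φ g (Projectivization.mk K q hq) = φ a := by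
        rw [← hzr, ha]
        exact (Projectivization.mk_eq_mk_iff' K _ _ _ _).mpr ⟨α, hz'⟩
      rw [hpq, rho_apply] at h2
      exact hap (smul_left_cancel g ((d.fix hg).trans (φ.injective h2).symm))
    refine ⟨β⁻¹ * α, fun h => ?_⟩
    rw [← hzr]
    refine (Projectivization.mk_eq_mk_iff' K _ _ _ _).mpr ⟨β, ?_⟩
    rw [← hz', smul_add, smul_smul, mul_inv_cancel_left₀ hβ, add_comm]
  set v := c • v₀ with hv
  have hvW : v ∈ W := W.smul_mem _ hv₀W
  have hfv : f v = 0 := hfW v hvW
  have hne1 : ∀ {x : Fin n → K}, f x = 1 → x + v ≠ 0 := fun {x} hx h => by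
    have := congrArg f h
    rw [map_add, hx, hfv, add_zero, map_zero] at this
    exact one_ne_zero this
  have hne0 : ∀ {x : Fin n → K}, f x = 1 → x ≠ 0 := fun {x} hx h => by
    rw [h, map_zero] at hx
    exact zero_ne_one hx
  let P : (Fin n → K) → Prop := fun x => ∀ (h : x ≠ 0) (h' : x + v ≠ 0),
    rho φ g (Projectivization.mk K x h) = Projectivization.mk K (x + v) h'
  have hstep : ∀ x w, f x = 1 → P x → w ∈ W → w ∉ Submodule.span K {v₀} → P (x + w) := by
    intro x w hx hPx hw hwv h h'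
    have hw0 : w ≠ 0 := fun e => hwv (e ▸ zero_mem _)
    have hfw := hfW w hw
    have hxw : Projectivization.mk K x (hne0 hx) ≠ Projectivization.mk K w hw0 := fun e => by
      obtain ⟨k, hk⟩ := (Projectivization.mk_eq_mk_iff' K _ _ _ _).mp e
      rw [← hk, map_smul, hfw, smul_zero] at hx
      exact zero_ne_one hx
    have h1 := d.rho_col hφ g (r := Projectivization.mk K (x + w) h) hxw
      ((submodule_le_iff _ _ _).mpr ⟨1, 1, by simp⟩)
    rw [hPx (hne0 hx) (hne1 hx), hgfix hw0 hfw] at h1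
    obtain ⟨b, hb⟩ := φ.surjective (Projectivization.mk K (x + w) h)
    have hab : a ≠ b := fun e => by
      obtain ⟨k, hk⟩ := (Projectivization.mk_eq_mk_iff' K _ _ _ _).mp
        (show Projectivization.mk K v₀ hv₀ = Projectivization.mk K (x + w) h by rw [← ha, e, hb])
      have := congrArg f hk
      rw [map_smul, map_add, hx, hfw, add_zero, hfW v₀ hv₀W, smul_eq_mul, mul_one] at this
      exact hv₀ (by rw [← hk, this, zero_smul])
    have h2 := (hφ hab).mp (d.line_inv hg (d.right_mem hab))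
    rw [← rho_apply g b, hb, ha] at h2
    obtain ⟨z, hz, hzr⟩ : ∃ (z : Fin n → K) (hz : z ≠ 0),
        Projectivization.mk K z hz = rho φ g (Projectivization.mk K (x + w) h) :=
      ⟨_, (rho φ g _).rep_nonzero, Projectivization.mk_rep _⟩
    rw [← hzr, submodule_le_iff] at h1 h2
    obtain ⟨α, β, h1⟩ := h1
    obtain ⟨γ, δ, h2⟩ := h2
    have hαδ : α = δ := by
      have e := congrArg f (h1.trans h2.symm)
      simpa [map_add, map_smul, hx, hfv, hfw, hfW v₀ hv₀W] using e
    subst hαδ
    have e : (β - α) • w = (γ - α * c) • v₀ := by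
      have e := h1.trans h2.symm
      rw [hv, smul_add, smul_add, smul_smul] at e
      rw [sub_smul, sub_smul]
      linear_combination (norm := module) e
    have hβα : β = α := by
      by_contra hne
      refine hwv (Submodule.mem_span_singleton.mpr ⟨(β - α)⁻¹ * (γ - α * c), ?_⟩)
      rw [← smul_smul, ← e, smul_smul, inv_mul_cancel₀ (sub_ne_zero.mpr hne), one_smul]
    rw [← hzr]
    refine (Projectivization.mk_eq_mk_iff' K _ _ _ _).mpr ⟨α, ?_⟩
    rw [← h1, hβα]
    module
  have hPq : P q := fun h h' => hc h'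
  obtain ⟨w₁, hw₁, hw₁v⟩ : ∃ w ∈ W, w ∉ Submodule.span K {v₀} := by
    by_contra hne
    push Not at hne
    have htop : (⊤ : Submodule K (Fin n → K)) ≤ Submodule.span K {v₀} ⊔ Submodule.span K {q} := by
      intro x _
      obtain ⟨w, hw, k, rfl⟩ := hdec x
      exact Submodule.add_mem_sup (hne w hw) (Submodule.smul_mem _ _ (Submodule.mem_span_singleton_self _))
    have h := (Submodule.finrank_mono htop).trans (Submodule.finrank_add_le_finrank_add_finrank _ _)
    rw [finrank_top, Module.finrank_fin_fun, finrank_span_singleton hv₀,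
      finrank_span_singleton hq] at h
    omega
  have hP : ∀ x, f x = 1 → P x := by
    intro x hx
    have hw : x - q ∈ W := hker _ (by rw [map_sub, hx, hfq, sub_self])
    by_cases hs : x - q ∈ Submodule.span K {v₀}
    · have h2 : x - q - w₁ ∉ Submodule.span K {v₀} := fun h => hw₁v (by
        simpa using Submodule.sub_mem _ hs h)
      have := hstep (q + w₁) (x - q - w₁) (by rw [map_add, hfq, hfW _ hw₁, add_zero])
        (hstep q w₁ hfq hPq hw₁ hw₁v) (W.sub_mem hw hw₁) h2
      rwa [show q + w₁ + (x - q - w₁) = x by abel] at this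
    · have := hstep q (x - q) hfq hPq hw hs
      rwa [add_sub_cancel] at this
  have hcf : (c • f) v₀ = 0 := by
    rw [LinearMap.smul_apply, hfW v₀ hv₀W, smul_zero]
  refine ⟨c • f, hcf, Equiv.ext fun r => ?_⟩
  induction r using Projectivization.ind with | _ x hx =>
  rw [tperm_mk]
  by_cases hfx : f x = 0
  · rw [hgfix hx hfx]
    exact (Projectivization.mk_eq_mk_iff' K _ _ _ _).mpr ⟨1, by simp [hfx]⟩
  have h1 : f ((f x)⁻¹ • x) = 1 := by rw [map_smul, smul_eq_mul, inv_mul_cancel₀ hfx]
  have he : Projectivization.mk K x hx = Projectivization.mk K ((f x)⁻¹ • x) (hne0 h1) :=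
    (Projectivization.mk_eq_mk_iff' K _ _ _ _).mpr ⟨f x, by
      rw [smul_smul, mul_inv_cancel₀ hfx, one_smul]⟩
  rw [he, hP _ h1 (hne0 h1) (hne1 h1)]
  refine (Projectivization.mk_eq_mk_iff' K _ _ _ _).mpr ⟨(f x)⁻¹, ?_⟩
  rw [hv, smul_add, smul_smul]
  congr 1
  rw [show (c • f) x = c * f x from rfl, mul_comm c, inv_mul_cancel_left₀ hfx]

/-- The family contains every elation. -/
theorem exists_pre {v : Fin n → K} (hv : v ≠ 0) (f : Dual K (Fin n → K)) (hf : f v = 0) :
    ∃ g ∈ d.N (φ.symm (Projectivization.mk K v hv)), rho φ g = tperm v f hf := by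
  classical
  set a := φ.symm (Projectivization.mk K v hv) with ha'
  have ha : φ a = Projectivization.mk K v hv := φ.apply_symm_apply _
  have hone : rho φ (1 : G) = tperm v 0 rfl := by
    refine Equiv.ext fun r => ?_
    induction r using Projectivization.ind with | _ x hx =>
    rw [tperm_mk, map_one]
    exact (Projectivization.mk_eq_mk_iff' K _ _ _ _).mpr ⟨1, by simp⟩
  have hmul : ∀ (f₁ f₂ : Dual K (Fin n → K)) (h₁ : f₁ v = 0) (h₂ : f₂ v = 0)
      (h₃ : (f₁ + f₂) v = 0), tperm v f₁ h₁ * tperm v f₂ h₂ = tperm v (f₁ + f₂) h₃ := by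
    intro f₁ f₂ h₁ h₂ h₃
    rw [tperm, tperm, ← map_mul, tsl_mul]
    rfl
  -- scalar multiples
  have hscal : ∀ g ∈ d.N a, ∀ (f₁ : Dual K (Fin n → K)) (h₁ : f₁ v = 0), f₁ ≠ 0 →
      rho φ g = tperm v f₁ h₁ → ∀ k : K, ∃ g' ∈ d.N a, ∀ h : (k • f₁) v = 0,
        rho φ g' = tperm v (k • f₁) h := by
    intro g hg f₁ h₁ hf₁ he
    have hg1 : g ≠ 1 := fun e => hf₁ (tperm_inj h₁ (LinearMap.zero_apply v) hv
      (by rw [← he, e]; exact hone))
    let B : d.Base := ⟨a, g, hg, hg1⟩
    obtain ⟨q, hq⟩ : ∃ q, f₁ q = 1 := by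
      obtain ⟨x, hx⟩ : ∃ x, f₁ x ≠ 0 := by
        by_contra h
        push Not at h
        exact hf₁ (LinearMap.ext h)
      exact ⟨(f₁ x)⁻¹ • x, by rw [map_smul, smul_eq_mul, inv_mul_cancel₀ hx]⟩
    have hT : ∀ t : B.T a, ∃ k : K, ∀ h : (k • f₁) v = 0, rho φ t.1 = tperm v (k • f₁) h := by
      intro t
      by_cases ht1 : (t : G) = 1
      · exact ⟨0, fun h => by simp only [zero_smul, ht1]; exact hone⟩
      obtain ⟨f₂, h₂, he₂⟩ := d.exists_elation hφ hn (B.mem_T.mp t.2).1 ht1 hv ha
      have hle : ∀ w, f₁ w = 0 → f₂ w = 0 := by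
        intro w hw
        by_cases hws : w ∈ Submodule.span K {v}
        · obtain ⟨k, rfl⟩ := Submodule.mem_span_singleton.mp hws
          rw [map_smul, h₂, smul_zero]
        have hw0 : w ≠ 0 := fun e => hws (e ▸ zero_mem _)
        obtain ⟨b, hb⟩ := φ.surjective (Projectivization.mk K w hw0)
        have hbH : b ∈ B.H := by
          show g • b = b
          refine φ.injective ?_
          rw [← rho_apply, he, hb, tperm_mk]
          exact (Projectivization.mk_eq_mk_iff' K _ _ _ _).mpr ⟨1, by simp [hw]⟩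
        have h3 : rho φ t.1 (φ b) = φ b := by rw [rho_apply, (B.mem_T.mp t.2).2 b hbH]
        rw [he₂, hb, tperm_mk, Projectivization.mk_eq_mk_iff'] at h3
        obtain ⟨k, hk⟩ := h3
        by_contra hne
        refine hws (Submodule.mem_span_singleton.mpr ⟨(k - 1)⁻¹ * f₂ w, ?_⟩)
        have e : f₂ w • v = (k - 1) • w := by rw [sub_smul, one_smul, hk]; abel
        have hk1 : k - 1 ≠ 0 := fun h => by
          rw [h, zero_smul, smul_eq_zero, or_iff_left hv] at e
          exact hne e
        rw [← smul_smul, e, smul_smul, inv_mul_cancel₀ hk1, one_smul]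
      have h3 : f₂ = f₂ q • f₁ := by
        refine LinearMap.ext fun x => ?_
        have := hle (x - f₁ x • q) (by rw [map_sub, map_smul, hq, smul_eq_mul, mul_one, sub_self])
        rw [map_sub, map_smul, sub_eq_zero, smul_eq_mul] at this
        rw [this, LinearMap.smul_apply, smul_eq_mul, mul_comm]
      exact ⟨f₂ q, fun h => by rw [he₂]; congr 1⟩
    choose k hk using hT
    have hzero : ∀ k : K, (k • f₁) v = 0 := fun k => by rw [LinearMap.smul_apply, h₁, smul_zero]
    have hinj : Function.Injective k := fun t t' e => Subtype.ext (rho_injective (φ := φ)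
      (by rw [hk t (hzero _), hk t' (hzero _)]; simp only [e]))
    obtain ⟨b, hb⟩ := exists_ne a
    have hbij : Function.Bijective k := (Nat.bijective_iff_injective_and_card k).mpr
      ⟨hinj, by rw [B.card_T B.a0_mem hb.symm, d.S_eq_card hφ hb.symm]⟩
    intro c
    obtain ⟨t, rfl⟩ := hbij.2 c
    exact ⟨t, (B.mem_T.mp t.2).1, hk t⟩
  let S : Submodule K (Dual K (Fin n → K)) :=
    { carrier := {f₁ | ∃ (h : f₁ v = 0), ∃ g ∈ d.N a, rho φ g = tperm v f₁ h}
      zero_mem' := ⟨rfl, 1, one_mem _, hone⟩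
      add_mem' := by
        rintro f₁ f₂ ⟨h₁, g₁, hg₁, e₁⟩ ⟨h₂, g₂, hg₂, e₂⟩
        refine ⟨by rw [LinearMap.add_apply, h₁, h₂, add_zero], g₁ * g₂, mul_mem hg₁ hg₂, ?_⟩
        rw [map_mul, e₁, e₂]
        exact hmul f₁ f₂ h₁ h₂ _
      smul_mem' := by
        rintro c f₁ ⟨h₁, g, hg, e⟩
        rcases eq_or_ne f₁ 0 with rfl | hf₁
        · exact ⟨by simp, 1, one_mem _, by simp only [smul_zero]; exact hone⟩
        · obtain ⟨g', hg', e'⟩ := hscal g hg f₁ h₁ hf₁ e c
          exact ⟨by rw [LinearMap.smul_apply, h₁, smul_zero], g', hg', e' _⟩ }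
  have hco : S.dualCoannihilator ≤ Submodule.span K {v} := by
    intro w hw
    by_contra hws
    have hw0 : w ≠ 0 := fun e => hws (e ▸ zero_mem _)
    obtain ⟨b, hb⟩ := φ.surjective (Projectivization.mk K w hw0)
    have hab : a ≠ b := fun e => by
      rw [← e, ha, Projectivization.mk_eq_mk_iff'] at hb
      obtain ⟨k, hk⟩ := hb
      have hk0 : k ≠ 0 := fun h => hv (by rw [← hk, h, zero_smul])
      refine hws (Submodule.mem_span_singleton.mpr ⟨k⁻¹, ?_⟩)
      rw [← hk, smul_smul, inv_mul_cancel₀ hk0, one_smul]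
    obtain ⟨g, hg, hgb⟩ := SetLike.not_le_iff_exists.mp
      (fun h => d.A_ne_N hab (le_antisymm (d.A_le a b) h) : ¬ d.N a ≤ d.A a b)
    obtain ⟨f₁, h₁, e⟩ := d.exists_elation hφ hn hg (fun e => hgb (e ▸ one_mem _)) hv ha
    refine hgb ⟨hg, φ.injective ?_⟩
    have hz : f₁ w = 0 := (Submodule.mem_dualCoannihilator _).mp hw f₁ ⟨h₁, g, hg, e⟩
    rw [← rho_apply, e, hb, tperm_mk]
    exact (Projectivization.mk_eq_mk_iff' K _ _ _ _).mpr ⟨1, by simp [hz]⟩
  have hmem : f ∈ S := by
    rw [← Subspace.dualCoannihilator_dualAnnihilator_eq (W := S), Submodule.mem_dualAnnihilator]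
    intro w hw
    obtain ⟨k, rfl⟩ := Submodule.mem_span_singleton.mp (hco hw)
    rw [map_smul, hf, smul_zero]
  obtain ⟨h, g, hg, e⟩ := hmem
  exact ⟨g, hg, e⟩

end Hyp

end Cfsg.Agent.Spor.ONan
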