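import Cfsg.Agent.Lib.Spor.ONan.Basic

/-!
The lines of the family: `c` lies on the line through `a` and `b` when `A a c = A a b`.
-/

set_option autoImplicit false
set_option linter.unusedSectionVars false
set_option linter.style.haveILetI false

namespace Cfsg.Agent.Spor.ONan.Hyp

variable {G X : Type*} [Group G] [Finite G] [MulAction G X] [FaithfulSMul G X] [Finite X]
  (d : Hyp G X)

/-- The line through two points. -/
def line (a b : X) : Set X := insert a {c | c ≠ a ∧ d.A a c = d.A a b}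

theorem left_mem (a b : X) : a ∈ d.line a b := Set.mem_insert _ _

theorem mem_line {a b c : X} (hca : c ≠ a) : c ∈ d.line a b ↔ d.A a c = d.A a b := by
  simp [line, hca]

theorem right_mem {a b : X} (hab : a ≠ b) : b ∈ d.line a b := (d.mem_line hab.symm).mpr rfl

theorem line_eq_of_mem {a b c : X} (hc : c ∈ d.line a b) (hca : c ≠ a) :
    d.line a c = d.line a b := by
  rw [line, line, (d.mem_line hca).mp hc]

theorem col_swap {a b c : X} (hab : a ≠ b) (hac : a ≠ c) (hbc : b ≠ c)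
    (h : d.A a c = d.A a b) : d.A b c = d.A b a := by
  have h1 : Nat.card (d.F2 b a c) = Nat.card (d.A b c) := by
    rw [d.card_F2_swap hab hac hbc, F2, h, inf_idem, d.card_A hab hbc]
  have h2 : d.F2 b a c = d.A b c := Subgroup.eq_of_le_of_card_ge inf_le_right h1.ge
  refine Subgroup.eq_of_le_of_card_ge (h2 ▸ (inf_le_left : d.F2 b a c ≤ _)) ?_
  rw [d.card_A hab.symm hbc]

theorem line_comm_le {a b : X} (hab : a ≠ b) : d.line a b ⊆ d.line b a := by
  intro c hc
  rcases eq_or_ne c b with rfl | hcb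
  · exact d.left_mem _ _
  rcases eq_or_ne c a with rfl | hca
  · exact d.right_mem hab.symm
  exact (d.mem_line hcb).mpr (d.col_swap hab hca.symm hcb.symm ((d.mem_line hca).mp hc))

theorem line_comm {a b : X} (hab : a ≠ b) : d.line a b = d.line b a :=
  Set.Subset.antisymm (d.line_comm_le hab) (d.line_comm_le hab.symm)

/-- Two points of a line determine it. -/
theorem line_eq {a b c e : X} (hab : a ≠ b) (hc : c ∈ d.line a b) (he : e ∈ d.line a b)
    (hce : c ≠ e) : d.line c e = d.line a b := by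
  rcases eq_or_ne c a with rfl | hca
  · exact d.line_eq_of_mem he hce.symm
  have h1 : d.line a c = d.line a b := d.line_eq_of_mem hc hca
  rw [← h1, d.line_comm hca.symm] at he
  rw [d.line_eq_of_mem he hce.symm, ← d.line_comm hca.symm, h1]

/-- Two lines with two common points coincide. -/
theorem eq_of_two {a b a' b' x y : X} (hab : a ≠ b) (hab' : a' ≠ b') (hxy : x ≠ y)
    (hx : x ∈ d.line a b) (hy : y ∈ d.line a b) (hx' : x ∈ d.line a' b') (hy' : y ∈ d.line a' b') :
    d.line a b = d.line a' b' :=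
  (d.line_eq hab hx hy hxy).symm.trans (d.line_eq hab' hx' hy' hxy)

theorem not_mem_left {a b c : X} (hab : a ≠ b) (hc : c ∉ d.line a b) : a ∉ d.line b c := by
  intro h
  have hbc : b ≠ c := fun e => hc (e ▸ d.right_mem hab)
  refine hc ?_
  rw [d.line_comm hab, d.line_eq_of_mem h hab]
  exact d.right_mem hbc

theorem not_mem_mid {a b c : X} (hab : a ≠ b) (hc : c ∉ d.line a b) : b ∉ d.line a c := by
  intro h
  have hac : a ≠ c := fun e => hc (e ▸ d.left_mem _ _)
  refine hc ?_
  rw [d.line_eq_of_mem h hab.symm]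
  exact d.right_mem hac

theorem meet_unique {a b c x : X} (hab : a ≠ b) (hc : c ∉ d.line a b) (hxa : x ∈ d.line a c)
    (hxb : x ∈ d.line b c) : x = c := by
  by_contra hxc
  have hac : a ≠ c := fun e => hc (e ▸ d.left_mem _ _)
  have hbc : b ≠ c := fun e => hc (e ▸ d.right_mem hab)
  have h := d.eq_of_two hac hbc hxc hxa (d.right_mem hac) hxb (d.right_mem hbc)
  exact d.not_mem_left hab hc (h ▸ d.left_mem a c)

theorem smul_mem_line (g : G) {a b x : X} :
    g • x ∈ d.line (g • a) (g • b) ↔ x ∈ d.line a b := by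
  rcases eq_or_ne x a with rfl | hxa
  · simp [d.left_mem]
  rw [d.mem_line hxa, d.mem_line (fun h => hxa (smul_left_cancel g h))]
  constructor
  · intro h
    ext y
    rw [← d.conj_A g, h, d.conj_A]
  · intro h
    ext y
    have e : y = g * (g⁻¹ * y * g) * g⁻¹ := by group
    rw [e, d.conj_A, d.conj_A, h]

/-- `N a` fixes every line through `a`. -/
theorem line_inv {a b x : X} {n : G} (hn : n ∈ d.N a) (hx : x ∈ d.line a b) :
    n • x ∈ d.line a b := by
  rcases eq_or_ne x a with rfl | hxa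
  · rw [d.fix hn]; exact hx
  have hnx : n • x ≠ a := fun h => hxa (smul_left_cancel n (h.trans (d.fix hn).symm))
  rw [d.mem_line hnx, ← (d.mem_line hxa).mp hx]
  ext y
  have e := d.conj_A n a x y
  rw [d.fix hn] at e
  constructor
  · intro hy
    refine e.mp ?_
    rw [d.comm hn hy.1, mul_inv_cancel_right]
    exact hy
  · intro hy
    have := e.mpr hy
    rwa [d.comm hn hy.1, mul_inv_cancel_right] at this

theorem fix_line {a b x : X} {n : G} (hn : n ∈ d.A a b) (hx : x ∈ d.line a b) : n • x = x := by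
  rcases eq_or_ne x a with rfl | hxa
  · exact d.fix hn.1
  rw [← (d.mem_line hxa).mp hx] at hn
  exact hn.2

theorem fix_line' {a b x : X} (hab : a ≠ b) {n : G} (hn : n ∈ d.A b a) (hx : x ∈ d.line a b) :
    n • x = x :=
  d.fix_line hn (d.line_comm hab ▸ hx)

/-- `[A b a, N a] ≤ A a b`. -/
theorem e_mem {a b : X} (hab : a ≠ b) {m n : G} (hm : m ∈ d.A b a) (hn : n ∈ d.N a) :
    m⁻¹ * (n * m * n⁻¹) ∈ d.A a b := by
  refine ⟨?_, ?_⟩
  · show m⁻¹ * (n * m * n⁻¹) ∈ d.N a
    have h : m⁻¹ * (n * m * n⁻¹) = m⁻¹ * n * m * n⁻¹ := by group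
    rw [h]
    have := d.conj_self (g := m⁻¹) (by rw [inv_smul_eq_iff, hm.2]) hn
    rw [inv_inv] at this
    exact mul_mem this (inv_mem hn)
  · show (m⁻¹ * (n * m * n⁻¹)) • b = b
    have h1 : n⁻¹ • b ∈ d.line a b := d.line_inv (inv_mem hn) (d.right_mem hab)
    rw [mul_smul, mul_smul, mul_smul, d.fix_line' hab hm h1, smul_inv_smul, inv_smul_eq_iff,
      d.fix hm.1]

theorem exists_not_mem_line {a b : X} (hab : a ≠ b) : ∃ x, x ∉ d.line a b := by
  by_contra h
  push Not at h
  obtain ⟨n, hn, hn1⟩ := d.exists_ne_one_A hab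
  exact hn1 (eq_one_of_fix_all (X := X) fun x => d.fix_line hn (h x))

/-- The number of further points of a line. -/
noncomputable def S (a b : X) : ℕ := (d.A a b).relIndex (d.N a)

theorem card_A_mul_S (a b : X) : Nat.card (d.A a b) * d.S a b = Nat.card (d.N a) := by
  have h := Subgroup.card_mul_index ((d.A a b).subgroupOf (d.N a))
  rwa [Nat.card_congr (Subgroup.subgroupOfEquivOfLe (d.A_le a b)).toEquiv] at h

theorem S_eq {a b c e : X} (hab : a ≠ b) (hce : c ≠ e) : d.S a b = d.S c e := by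
  have h1 := d.card_A_mul_S a b
  rw [d.card_A hab hce, d.card_N a c, ← d.card_A_mul_S c e] at h1
  exact Nat.eq_of_mul_eq_mul_left Nat.card_pos h1

theorem A_ne_N {a b : X} (hab : a ≠ b) : d.A a b ≠ d.N a := by
  intro h
  obtain ⟨n, hn, hn1⟩ := d.exists_ne_one_A hab
  refine hn1 (eq_one_of_fix_all (X := X) fun x => ?_)
  rcases eq_or_ne x a with rfl | hx
  · exact d.fix hn.1
  have : d.A a x = d.N a := Subgroup.eq_of_le_of_card_ge (d.A_le a x)
    (by rw [d.card_A hx.symm hab, h])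
  exact (this.ge hn.1).2

theorem two_le_S {a b : X} (hab : a ≠ b) : 2 ≤ d.S a b := by
  have h0 : d.S a b ≠ 0 := fun h => by
    have := d.card_A_mul_S a b
    rw [h, mul_zero] at this
    exact Nat.card_pos.ne' this.symm
  have h1 : d.S a b ≠ 1 := fun h =>
    d.A_ne_N hab (le_antisymm (d.A_le a b) (Subgroup.relIndex_eq_one.mp h))
  omega

/-- What a triangle yields. -/
theorem triangle {a b c : X} (hab : a ≠ b) (hc : c ∉ d.line a b) {n : G} (hn : n ∈ d.N a)
    (hnA : n ∉ d.A a b) {m : G} (hm : m ∈ d.A b a) :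
    (m ∈ d.F2 b a c ↔ m⁻¹ * (n * m * n⁻¹) ∈ d.F2 a b c) ∧
    (∀ u ∈ d.F2 a b c, ∃ m' ∈ d.F2 b a c, u = m'⁻¹ * (n * m' * n⁻¹)) := by
  have hac : a ≠ c := fun e => hc (e ▸ d.left_mem _ _)
  have hbc : b ≠ c := fun e => hc (e ▸ d.right_mem hab)
  have hnb : n • b ≠ b := fun h => hnA ⟨hn, h⟩
  set x := n • b with hx
  have hxl : x ∈ d.line a b := d.line_inv hn (d.right_mem hab)
  have hxa : x ≠ a := fun h => hab (smul_left_cancel n ((d.fix hn).trans h.symm))
  have hAx : d.A a x = d.A a b := (d.mem_line hxa).mp hxl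
  have hlx : d.line a x = d.line a b := d.line_eq_of_mem hxl hxa
  have hxc : x ≠ c := fun h => hc (h ▸ hxl)
  let T : Subgroup G := (d.F2 x a c).comap (MulAut.conj n).toMonoidHom
  have hT : ∀ z, z ∈ T ↔ n * z * n⁻¹ ∈ d.F2 x a c := fun z => Iff.rfl
  have hTA : ∀ z ∈ T, z ∈ d.A b a := fun z hz => by
    have h := ((hT z).mp hz).1
    have e := d.conj_A n b a z
    rw [d.fix hn, ← hx] at e
    exact e.mp h
  have hTM : ∀ z ∈ T, z ∈ d.F2 b a c ∧ z⁻¹ * (n * z * n⁻¹) ∈ d.F2 a b c := by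
    intro z hz
    have hzA := hTA z hz
    have he := d.e_mem hab hzA hn
    have hl : (n * z * n⁻¹) • c = c := ((hT z).mp hz).2.2
    have h1 : (z⁻¹ * (n * z * n⁻¹)) • c = z⁻¹ • c := by rw [mul_smul, hl]
    have h2 : z⁻¹ • c = c := by
      refine d.meet_unique hab hc ?_ (d.line_inv (inv_mem hzA.1) (d.right_mem hbc))
      rw [← h1]
      exact d.line_inv he.1 (d.right_mem hac)
    exact ⟨⟨hzA, hzA.1, by show z • c = c; rwa [inv_smul_eq_iff, eq_comm] at h2⟩,
      ⟨he, he.1, h1.trans h2⟩⟩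
  have hcardT : Nat.card T = Nat.card (d.F2 b a c) := by
    rw [card_eq_of_conj n T (d.F2 x a c) (fun z => (hT z).symm), d.card_F2_swap hxa.symm hac hxc,
      d.card_F2_swap hab hac hbc, F2, hAx, F2]
  have hTeq : T = d.F2 b a c :=
    Subgroup.eq_of_le_of_card_ge (fun z hz => (hTM z hz).1) hcardT.ge
  have hinj : ∀ z ∈ d.A b a, ∀ z' ∈ d.A b a,
      z⁻¹ * (n * z * n⁻¹) = z'⁻¹ * (n * z' * n⁻¹) → z = z' := by
    intro z hz z' hz' h
    by_contra hne
    refine hnA (d.mem_A_of_commute hn (mul_mem hz'.1 (inv_mem hz.1))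
      (fun e => hne (mul_inv_eq_one.mp e).symm) ?_)
    have h2 := congrArg (fun w => z' * w * (n * z⁻¹)) h
    simp only [mul_assoc, inv_mul_cancel_left, mul_inv_cancel, mul_inv_cancel_left, mul_one] at h2
    rw [mul_assoc]
    exact h2.symm
  have hf : Function.Bijective (fun z : d.F2 b a c =>
      (⟨_, (hTM z.1 (hTeq.ge z.2)).2⟩ : d.F2 a b c)) := by
    refine (Nat.bijective_iff_injective_and_card _).mpr ⟨fun z z' e => Subtype.ext ?_,
      d.card_F2_swap hab hac hbc⟩
    exact hinj _ z.2.1 _ z'.2.1 (congrArg Subtype.val e)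
  refine ⟨⟨fun h => (hTM m (hTeq.ge h)).2, fun h => ?_⟩, fun u hu => ?_⟩
  · obtain ⟨z, hz⟩ := hf.2 ⟨_, h⟩
    rw [← hinj _ z.2.1 _ hm (congrArg Subtype.val hz)]
    exact z.2
  · obtain ⟨z, hz⟩ := hf.2 ⟨u, hu⟩
    exact ⟨z.1, z.2, (congrArg Subtype.val hz).symm⟩

theorem card_F2_mul {a b c : X} :
    Nat.card (d.F2 a b c) * (d.A a c).relIndex (d.A a b) = Nat.card (d.A a b) := by
  have h := Subgroup.card_mul_index ((d.F2 a b c).subgroupOf (d.A a b))
  rw [Nat.card_congr (Subgroup.subgroupOfEquivOfLe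
    (show d.F2 a b c ≤ d.A a b from inf_le_left)).toEquiv] at h
  rwa [← Subgroup.inf_relIndex_left]

theorem relIndex_eq_S {a b c : X} (hab : a ≠ b) (hc : c ∉ d.line a b) :
    (d.A a c).relIndex (d.A a b) = d.S a b := by
  have hac : a ≠ c := fun e => hc (e ▸ d.left_mem _ _)
  have hbc : b ≠ c := fun e => hc (e ▸ d.right_mem hab)
  refine le_antisymm ?_ ?_
  · have h1 : (d.A a c).relIndex (d.A a b) = (d.A b c).relIndex (d.A b a) := by
      have e1 := d.card_F2_mul (a := a) (b := b) (c := c)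
      have e2 := d.card_F2_mul (a := b) (b := a) (c := c)
      rw [d.card_F2_swap hab hac hbc, d.card_A hab.symm hab, ← e1] at e2
      exact (Nat.eq_of_mul_eq_mul_left Nat.card_pos e2).symm
    rw [h1, d.S_eq hab hbc]
    refine Subgroup.relIndex_le_of_le_right (d.A_le b a) fun h => ?_
    have := d.two_le_S hbc
    rw [S, h] at this
    omega
  · have hne : ¬ d.A b a ≤ d.F2 b a c := by
      intro hle
      have h : d.A b a = d.A b c := Subgroup.eq_of_le_of_card_ge (hle.trans inf_le_right)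
        (d.card_A hbc hab.symm).le
      exact hc (d.line_comm hab ▸ (d.mem_line hbc.symm).mpr h.symm)
    obtain ⟨m, hm, hm0⟩ := SetLike.not_le_iff_exists.mp hne
    let φ : d.N a →* d.A a b := MonoidHom.mk' (fun n => ⟨_, d.e_mem hab hm n.2⟩) (by
      rintro ⟨n, hn⟩ ⟨n', hn'⟩
      refine Subtype.ext ?_
      show m⁻¹ * (n * n' * m * (n * n')⁻¹) = m⁻¹ * (n * m * n⁻¹) * (m⁻¹ * (n' * m * n'⁻¹))
      have hk := d.comm (inv_mem hn) (d.e_mem hab hm hn').1
      calc m⁻¹ * (n * n' * m * (n * n')⁻¹)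
          = m⁻¹ * (n * m * ((m⁻¹ * (n' * m * n'⁻¹)) * n⁻¹)) := by group
        _ = m⁻¹ * (n * m * (n⁻¹ * (m⁻¹ * (n' * m * n'⁻¹)))) := by rw [hk]
        _ = _ := by group)
    have hker : ((d.A a c).subgroupOf (d.A a b)).comap φ = (d.A a b).subgroupOf (d.N a) := by
      ext n
      rw [Subgroup.mem_comap, Subgroup.mem_subgroupOf, Subgroup.mem_subgroupOf]
      constructor
      · intro h
        by_contra hn
        exact hm0 ((d.triangle hab hc n.2 hn hm).1.mpr ⟨d.e_mem hab hm n.2, h⟩)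
      · intro h
        show m⁻¹ * (n.1 * m * n.1⁻¹) ∈ d.A a c
        rw [← d.A_commute hab h hm, mul_inv_cancel_right, inv_mul_cancel]
        exact one_mem _
    rw [S, Subgroup.relIndex, ← hker, Subgroup.index_comap]
    refine (Subgroup.relIndex_le_of_le_right (le_top : φ.range ≤ ⊤) ?_).trans ?_
    · rw [Subgroup.relIndex_top_right]; exact Subgroup.index_ne_zero_of_finite
    · rw [Subgroup.relIndex_top_right]; exact le_rfl

end Cfsg.Agent.Spor.ONan.Hyp
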