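import Cfsg.Agent.Lib.Spor.ONan.Elation

/-!
O'Nan's theorem: an abelian normal subgroup of a point stabiliser of a doubly transitive group that
is not semiregular elsewhere gives a projective special linear group.
-/

set_option autoImplicit false
set_option linter.unusedSectionVars false
set_option linter.style.haveILetI false

namespace Cfsg.Agent.Spor.ONan

open scoped LinearAlgebra.Projectivization

variable {G X : Type*} [Group G] [Finite G] [MulAction G X] [FaithfulSMul G X] [Finite X]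
  [Nontrivial X]

theorem Hyp.classify (d : Hyp G X) :
    ∃ (K : Type) (_ : Field K) (_ : Fintype K) (n : ℕ), 3 ≤ n ∧
      Nat.card X = (Fintype.card K ^ n - 1) / (Fintype.card K - 1) ∧
      ∃ L : Subgroup G, L.Normal ∧
        Nonempty (L ≃* Matrix.ProjectiveSpecialLinearGroup (Fin n) K) ∧
        Subgroup.centralizer (L : Set G) = ⊥ := by
  classical
  obtain ⟨K, instK, instKf, n, hn, φ, hφ⟩ := d.exists_coord
  letI := Fintype.ofFinite K
  refine ⟨K, instK, inferInstance, n, hn, ?_, ⨆ a, d.N a, ?_, ?_, ?_⟩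
  · rw [Nat.card_congr φ, Projectivization.card'', Nat.card_fun, Nat.card_eq_fintype_card,
      Nat.card_eq_fintype_card, Fintype.card_fin]
  · refine ⟨fun z hz g => ?_⟩
    induction hz using Subgroup.iSup_induction' with
    | hp a z hz => exact Subgroup.mem_iSup_of_mem (g • a) (d.conj g hz)
    | h1 => simp
    | hmul y z _ _ ihy ihz =>
      have e : g * (y * z) * g⁻¹ = g * y * g⁻¹ * (g * z * g⁻¹) := by group
      rw [e]
      exact mul_mem ihy ihz
  · let ψ := MulAction.toPermHom (Matrix.SpecialLinearGroup (Fin n) K) (ℙ K (Fin n → K))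
    have himg : (⨆ a, d.N a).map (Hyp.rho φ) = ψ.range := by
      refine le_antisymm ?_ ?_
      · rw [Subgroup.map_le_iff_le_comap]
        refine iSup_le fun a g hg => ?_
        show Hyp.rho φ g ∈ ψ.range
        by_cases hg1 : g = 1
        · rw [hg1, map_one]; exact one_mem _
        obtain ⟨f, hf, e⟩ := d.exists_elation hφ hn hg hg1 (φ a).rep_nonzero
          (Projectivization.mk_rep _).symm
        rw [e]
        exact ⟨_, rfl⟩
      · rw [MonoidHom.range_eq_map, ← Classical.SL_closure_transvections, MonoidHom.map_closure,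
          Subgroup.closure_le]
        rintro _ ⟨_, ⟨⟨i, j, hij, c⟩, rfl⟩, rfl⟩
        have hf : (c • LinearMap.proj j : Module.Dual K (Fin n → K)) (Pi.single i 1) = 0 := by
          simp [Pi.single_eq_of_ne (Ne.symm hij)]
        obtain ⟨g, hg, e⟩ := d.exists_pre hφ hn
          (v := (Pi.single i 1 : Fin n → K)) (Pi.single_ne_zero_iff.2 one_ne_zero) _ hf
        refine ⟨g, Subgroup.mem_iSup_of_mem _ hg, ?_⟩
        rw [e]
        refine congrArg ψ (Subtype.ext (Matrix.ext_iff_mulVec.2 fun x => ?_))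
        rw [tsl_mulVec]
        show _ = (Matrix.transvection i j c).mulVec x
        rw [Matrix.transvection, Matrix.add_mulVec, Matrix.one_mulVec, Matrix.single_mulVec_eq]
        ext k
        simp [Pi.single_apply]
    let P := Projectivization.PSLAction.toPermHom (K := K) (ι := Fin n)
    have hPr : P.range = ψ.range := by
      refine le_antisymm ?_ ?_
      · rintro _ ⟨g, rfl⟩
        obtain ⟨s, rfl⟩ := QuotientGroup.mk_surjective g
        exact ⟨s, rfl⟩
      · rintro _ ⟨s, rfl⟩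
        exact ⟨QuotientGroup.mk s, rfl⟩
    exact ⟨((Subgroup.equivMapOfInjective _ _ Hyp.rho_injective).trans
      (MulEquiv.subgroupCongr (himg.trans hPr.symm))).trans
      (MonoidHom.ofInjective Matrix.ProjectiveSpecialLinearGroup.toPermHom_injective).symm⟩
  · rw [eq_bot_iff]
    intro g hg
    refine Subgroup.mem_bot.mpr (Hyp.eq_one_of_fix_all fun a : X => ?_)
    obtain ⟨b, hb⟩ := exists_ne a
    obtain ⟨m, hm, hm1, -⟩ := d.move hb.symm
    exact d.fix_of_commute hm hm1
      ((Subgroup.mem_centralizer_iff.mp hg) m (Subgroup.mem_iSup_of_mem a hm)).symm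

/-- The family generated by one abelian subgroup. -/
theorem exists_hyp (h2 : MulAction.IsMultiplyPretransitive G X 2) (x : X) (N : Subgroup G)
    (hle : N ≤ MulAction.stabilizer G x)
    (hnormal : ∀ g ∈ MulAction.stabilizer G x, ∀ n ∈ N, g * n * g⁻¹ ∈ N)
    (hab : ∀ n ∈ N, ∀ m ∈ N, n * m = m * n)
    (hnsr : ∃ n ∈ N, n ≠ 1 ∧ ∃ y : X, y ≠ x ∧ n • y = y) : Nonempty (Hyp G X) := by
  classical
  have h2' : ∀ {a b c e : X}, a ≠ b → c ≠ e → ∃ g : G, g • a = c ∧ g • b = e :=
    MulAction.is_two_pretransitive_iff.mp h2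
  haveI : MulAction.IsPretransitive G X := MulAction.isPretransitive_of_is_two_pretransitive
  obtain ⟨n₀, hn₀, hn₁, y, hy, hny⟩ := hnsr
  let p := (orderOf n₀).minFac
  have hp : p.Prime := Nat.minFac_prime fun h => hn₁ (orderOf_eq_one_iff.mp h)
  let m₀ := n₀ ^ (orderOf n₀ / p)
  have hord : orderOf m₀ = p :=
    orderOf_pow_orderOf_div (orderOf_pos n₀).ne' (Nat.minFac_dvd _)
  let M : Subgroup G :=
    { carrier := {n | n ∈ N ∧ n ^ p = 1}
      one_mem' := ⟨one_mem _, one_pow _⟩
      mul_mem' := fun {a b} ha hb => ⟨mul_mem ha.1 hb.1, by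
        rw [Commute.mul_pow (hab a ha.1 b hb.1), ha.2, hb.2, one_mul]⟩
      inv_mem' := fun {a} ha => ⟨inv_mem ha.1, by rw [inv_pow, ha.2, inv_one]⟩ }
  have hM : ∀ g : G, g • x = x → ∀ n ∈ M, g * n * g⁻¹ ∈ M := fun g hg n hn =>
    ⟨hnormal g hg n hn.1, by rw [conj_pow, hn.2, mul_one, mul_inv_cancel]⟩
  choose t ht using fun c : X => MulAction.exists_smul_eq G x c
  let fam : X → Subgroup G := fun c => M.comap (MulAut.conj (t c)⁻¹).toMonoidHom
  have hfam : ∀ {c : X} {g n : G}, g • x = c → (n ∈ fam c ↔ g⁻¹ * n * g ∈ M) := by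
    intro c g n hg
    show (t c)⁻¹ * n * (t c)⁻¹⁻¹ ∈ M ↔ _
    rw [inv_inv]
    have hk : (g⁻¹ * t c) • x = x := by rw [mul_smul, ht, inv_smul_eq_iff, hg]
    constructor
    · intro h
      have := hM _ hk _ h
      rwa [show g⁻¹ * t c * ((t c)⁻¹ * n * t c) * (g⁻¹ * t c)⁻¹ = g⁻¹ * n * g by group] at this
    · intro h
      have := hM _ (inv_smul_eq_iff.mpr hk.symm : (g⁻¹ * t c)⁻¹ • x = x) _ h
      rwa [show (g⁻¹ * t c)⁻¹ * (g⁻¹ * n * g) * (g⁻¹ * t c)⁻¹⁻¹ = (t c)⁻¹ * n * t c by group]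
        at this
  refine ⟨{
    N := fam
    p := p
    hp := hp
    two := h2'
    fix := fun {a n} hn => ?_
    comm := fun {a n m} hn hm => ?_
    pow := fun {a n} hn => ?_
    conj := fun g {a n} hn => ?_
    move := fun {a b} hab' => ?_ }⟩
  · have h := hle ((hfam (ht a)).mp hn).1
    rw [MulAction.mem_stabilizer_iff, mul_smul, mul_smul, inv_smul_eq_iff, ht] at h
    exact h
  · have h := hab _ ((hfam (ht a)).mp hn).1 _ ((hfam (ht a)).mp hm).1
    have e := congrArg (fun z => t a * z * (t a)⁻¹) h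
    simpa [mul_assoc] using e
  · have h := ((hfam (ht a)).mp hn).2
    have e : ((t a)⁻¹ * n * ((t a)⁻¹)⁻¹) ^ p = 1 := by rw [inv_inv]; exact h
    rw [conj_pow, mul_inv_eq_one] at e
    simpa using e
  · refine (hfam (g := g * t a) (by rw [mul_smul, ht])).mpr ?_
    rw [show (g * t a)⁻¹ * (g * n * g⁻¹) * (g * t a) = (t a)⁻¹ * n * t a by group]
    exact (hfam (ht a)).mp hn
  · obtain ⟨g, hg, hg'⟩ := h2' hy.symm hab'
    refine ⟨g * m₀ * g⁻¹, (hfam hg).mpr ?_, ?_, ?_⟩
    · rw [show g⁻¹ * (g * m₀ * g⁻¹) * g = m₀ by group]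
      exact ⟨pow_mem hn₀ _, by rw [← hord, pow_orderOf_eq_one]⟩
    · rw [Ne, conj_eq_one_iff, ← orderOf_eq_one_iff, hord]
      exact hp.one_lt.ne'
    · have hm0 : m₀ • y = y := by
        have : m₀ ∈ MulAction.stabilizer G y := pow_mem (MulAction.mem_stabilizer_iff.mpr hny) _
        exact this
      rw [← hg', mul_smul, mul_smul, inv_smul_smul, hm0]

end Cfsg.Agent.Spor.ONan
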