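import Cfsg.Agent.Lib.Spor.ONan.Line

/-!
All lines have `S + 1` points and fixed point sets are hyperplanes.
-/

set_option autoImplicit false
set_option linter.unusedSectionVars false
set_option linter.style.haveILetI false

namespace Cfsg.Agent.Spor.ONan.Hyp

variable {G X : Type*} [Group G] [Finite G] [MulAction G X] [FaithfulSMul G X] [Finite X]
  (d : Hyp G X)

theorem orbit_ncard {a c : X} {K : Subgroup G} (hK : K ≤ d.N a) :
    ((fun g : G => g • c) '' (K : Set G)).ncard = (d.A a c).relIndex K := by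
  have hs : MulAction.stabilizer K c = (d.A a c).subgroupOf K := by
    ext g
    rw [Subgroup.mem_subgroupOf]
    exact ⟨fun h => ⟨hK g.2, h⟩, fun h => h.2⟩
  rw [Subgroup.relIndex, ← hs, MulAction.index_stabilizer]
  congr 1
  ext x
  exact ⟨fun ⟨g, hg, h⟩ => ⟨⟨g, hg⟩, h⟩, fun ⟨g, h⟩ => ⟨g.1, g.2, h⟩⟩

/-- `A a b` is transitive on the `N a`-orbit of a point off the line through `a` and `b`. -/
theorem exists_transl {a b c : X} (hab : a ≠ b) (hc : c ∉ d.line a b) {n : G} (hn : n ∈ d.N a) :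
    ∃ u ∈ d.A a b, u • c = n • c := by
  have hac : a ≠ c := fun e => hc (e ▸ d.left_mem _ _)
  have h : (fun g : G => g • c) '' (d.A a b : Set G) = (fun g : G => g • c) '' (d.N a : Set G) := by
    refine Set.eq_of_subset_of_ncard_le (Set.image_mono (d.A_le a b)) ?_
    rw [d.orbit_ncard le_rfl, d.orbit_ncard (d.A_le a b), d.relIndex_eq_S hab hc]
    exact (d.S_eq hac hab).le
  exact h.ge ⟨n, hn, rfl⟩

theorem not_mem_right {a b c : X} (hbc : b ≠ c) (ha : a ∉ d.line b c) : c ∉ d.line a b := by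
  have hab : a ≠ b := fun e => ha (e ▸ d.left_mem _ _)
  intro h
  rw [d.line_eq hab (d.right_mem hab) h hbc] at ha
  exact ha (d.left_mem _ _)

/-- An element of `N a` fixing two points fixes their line. -/
theorem line_fix {a b c x : X} {n : G} (hn : n ∈ d.N a) (hbc : b ≠ c) (hb : n • b = b)
    (hc : n • c = c) (hx : x ∈ d.line b c) : n • x = x := by
  by_cases ha : a ∈ d.line b c
  · rcases eq_or_ne a b with rfl | hab
    · exact d.fix_line ⟨hn, hc⟩ hx
    · refine d.fix_line ⟨hn, hb⟩ ?_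
      rwa [d.line_eq hbc ha (d.left_mem _ _) hab]
  rcases eq_or_ne x b with rfl | hxb
  · exact hb
  have hab : a ≠ b := fun e => ha (e ▸ d.left_mem _ _)
  have hcl : c ∉ d.line a b := d.not_mem_right hbc ha
  have hxl : x ∉ d.line a b := d.not_mem_right hxb.symm (by rwa [d.line_eq_of_mem hx hxb])
  obtain ⟨k, hk, hk'⟩ := SetLike.not_le_iff_exists.mp
    (fun h => d.A_ne_N hab (le_antisymm (d.A_le a b) h) : ¬ d.N a ≤ d.A a b)
  obtain ⟨m, hm, hnm⟩ :=
    (d.triangle hab hcl hk hk' (one_mem _)).2 n ⟨⟨hn, hb⟩, ⟨hn, hc⟩⟩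
  have hm' : m ∈ d.F2 b a x := by
    rw [F2, (d.mem_line hxb).mp hx]
    exact hm
  have h2 := (d.triangle hab hxl hk hk' hm'.1).1.mp hm'
  rw [← hnm] at h2
  exact h2.2.2

theorem mem_F2_of {a b c x y : X} (hbc : b ≠ c) (hxy : x ≠ y) (hx : x ∈ d.line b c)
    (hy : y ∈ d.line b c) {n : G} (hnx : n ∈ d.A a x) (hny : n ∈ d.A a y) : n ∈ d.F2 a b c := by
  have hl := d.line_eq hbc hx hy hxy
  refine d.mem_F2.mpr ⟨hnx.1, ?_, ?_⟩
  · exact d.line_fix hnx.1 hxy hnx.2 hny.2 (hl ▸ d.left_mem b c)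
  · exact d.line_fix hnx.1 hxy hnx.2 hny.2 (hl ▸ d.right_mem hbc)

theorem orbit_subset {b c : X} (hbc : b ≠ c) :
    (fun g : G => g • c) '' (d.N b : Set G) ⊆ d.line b c \ {b} := by
  rintro _ ⟨n, hn, rfl⟩
  refine ⟨d.line_inv hn (d.right_mem hbc), fun h => hbc ?_⟩
  exact smul_left_cancel n ((d.fix hn).trans (Set.mem_singleton_iff.mp h).symm)

theorem count {a b c : X} (hbc : b ≠ c) (ha : a ∉ d.line b c) :
    (d.line b c).ncard = d.S b c + 1 ∧ ∀ n ∈ d.N a, ∃ x ∈ d.line b c, n • x = x := by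
  classical
  letI := Fintype.ofFinite G
  letI := Fintype.ofFinite X
  have hab : a ≠ b := fun e => ha (e ▸ d.left_mem _ _)
  have hcl : c ∉ d.line a b := d.not_mem_right hbc ha
  have hlow : d.S b c + 1 ≤ (d.line b c).ncard := by
    have h := Set.ncard_le_ncard (d.orbit_subset hbc)
    rw [d.orbit_ncard le_rfl, Set.ncard_sdiff_singleton_of_mem (d.left_mem b c)] at h
    have : 0 < (d.line b c).ncard := (Set.ncard_pos).mpr ⟨b, d.left_mem b c⟩
    change d.S b c ≤ _ at h
    omega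
  set U := (d.F2 a b c : Set G).toFinset with hU
  set L := (d.line b c).toFinset with hL
  let f : X → Finset G := fun x => (d.A a x : Set G).toFinset \ U
  have hne : ∀ x ∈ L, a ≠ x := fun x hx e => ha (e ▸ (Set.mem_toFinset.mp hx))
  have hUA : ∀ x ∈ L, U ⊆ (d.A a x : Set G).toFinset := by
    intro x hx n hn
    rw [hU, Set.mem_toFinset, SetLike.mem_coe] at hn
    rw [Set.mem_toFinset]
    obtain ⟨h1, h2, h3⟩ := d.mem_F2.mp hn
    exact ⟨h1, d.line_fix h1 hbc h2 h3 (Set.mem_toFinset.mp hx)⟩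
  have hsub : L.biUnion f ⊆ (d.N a : Set G).toFinset \ U := by
    intro n hn
    obtain ⟨x, -, hx⟩ := Finset.mem_biUnion.mp hn
    simp only [f, Finset.mem_sdiff, Set.mem_toFinset, SetLike.mem_coe] at hx ⊢
    exact ⟨hx.1.1, hx.2⟩
  have hdisj : (L : Set X).PairwiseDisjoint f := by
    intro x hx y hy hxy
    rw [Function.onFun, Finset.disjoint_left]
    intro n hnx hny
    simp only [f, hU, Finset.mem_sdiff, Set.mem_toFinset, SetLike.mem_coe] at hnx hny
    exact hnx.2 (d.mem_F2_of hbc hxy (Set.mem_toFinset.mp hx) (Set.mem_toFinset.mp hy) hnx.1 hny.1)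
  have hu : Nat.card (d.F2 a b c) * d.S a b = Nat.card (d.A a b) := by
    rw [← d.relIndex_eq_S hab hcl]
    exact d.card_F2_mul
  have hn0 := d.card_A_mul_S a b
  have hcard : ∀ K : Subgroup G, (K : Set G).toFinset.card = Nat.card K := fun K => by
    rw [Set.toFinset_card, Nat.card_eq_fintype_card]
    exact Fintype.card_congr (Equiv.refl _)
  have hfx : ∀ x ∈ L, (f x).card = Nat.card (d.A a b) - Nat.card (d.F2 a b c) := fun x hx => by
    rw [Finset.card_sdiff_of_subset (hUA x hx), hcard, hcard, d.card_A (hne x hx) hab]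
  have hUN : U ⊆ (d.N a : Set G).toFinset := fun n hn => by
    rw [hU, Set.mem_toFinset, SetLike.mem_coe] at hn
    rw [Set.mem_toFinset]
    exact hn.1.1
  have hL' : L.card = (d.line b c).ncard := (Set.ncard_eq_toFinset_card' _).symm
  have hbu : (L.biUnion f).card =
      (d.line b c).ncard * (Nat.card (d.A a b) - Nat.card (d.F2 a b c)) := by
    rw [Finset.card_biUnion hdisj, Finset.sum_congr rfl hfx, Finset.sum_const, smul_eq_mul, hL']
  have htot : ((d.N a : Set G).toFinset \ U).card = Nat.card (d.N a) - Nat.card (d.F2 a b c) := by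
    rw [Finset.card_sdiff_of_subset hUN, hcard, hcard]
  have hu0 : 0 < Nat.card (d.F2 a b c) := Nat.card_pos
  have h2 := d.two_le_S hab
  have hk : (d.S b c + 1) * (Nat.card (d.A a b) - Nat.card (d.F2 a b c)) =
      Nat.card (d.N a) - Nat.card (d.F2 a b c) := by
    rw [d.S_eq hbc hab, ← hn0, ← hu]
    generalize Nat.card (d.F2 a b c) = u
    obtain ⟨k, hk⟩ : ∃ k, d.S a b = k + 1 := ⟨d.S a b - 1, by omega⟩
    rw [hk, show u * (k + 1) - u = u * k by rw [mul_add, mul_one, Nat.add_sub_cancel],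
      show u * (k + 1) * (k + 1) = (k + 1 + 1) * (u * k) + u by ring, Nat.add_sub_cancel]
  have hpos : 0 < Nat.card (d.A a b) - Nat.card (d.F2 a b c) := by
    rw [← hu]
    have : Nat.card (d.F2 a b c) < Nat.card (d.F2 a b c) * d.S a b :=
      lt_mul_of_one_lt_right hu0 (by omega)
    omega
  have hle := Finset.card_le_card hsub
  rw [hbu, htot, ← hk] at hle
  have hr : (d.line b c).ncard = d.S b c + 1 :=
    le_antisymm (Nat.le_of_mul_le_mul_right hle hpos) hlow
  refine ⟨hr, fun n hn => ?_⟩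
  by_cases hnU : n ∈ d.F2 a b c
  · exact ⟨b, d.left_mem b c, hnU.1.2⟩
  have heq : L.biUnion f = (d.N a : Set G).toFinset \ U :=
    Finset.eq_of_subset_of_card_le hsub (by rw [hbu, htot, hr, hk])
  have hmem : n ∈ L.biUnion f := by
    rw [heq, Finset.mem_sdiff, hU, Set.mem_toFinset, Set.mem_toFinset]
    exact ⟨hn, hnU⟩
  obtain ⟨x, hxL, hx⟩ := Finset.mem_biUnion.mp hmem
  simp only [f, Finset.mem_sdiff, Set.mem_toFinset, SetLike.mem_coe] at hx
  exact ⟨x, Set.mem_toFinset.mp hxL, hx.1.2⟩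

theorem card_line {b c : X} (hbc : b ≠ c) : (d.line b c).ncard = d.S b c + 1 := by
  obtain ⟨a, ha⟩ := d.exists_not_mem_line hbc
  exact (d.count hbc ha).1

/-- `N a` is transitive on the further points of a line through `a`. -/
theorem line_trans {a b x : X} (hab : a ≠ b) (hx : x ∈ d.line a b) (hxa : x ≠ a) :
    ∃ n ∈ d.N a, n • b = x := by
  have h : (fun g : G => g • b) '' (d.N a : Set G) = d.line a b \ {a} := by
    refine Set.eq_of_subset_of_ncard_le (d.orbit_subset hab) ?_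
    rw [d.orbit_ncard le_rfl, Set.ncard_sdiff_singleton_of_mem (d.left_mem a b), d.card_line hab]
    exact le_of_eq (by simp [S])
  exact h.ge ⟨hx, hxa⟩

theorem meets {a b c : X} (hbc : b ≠ c) {n : G} (hn : n ∈ d.N a) :
    ∃ x ∈ d.line b c, n • x = x := by
  by_cases ha : a ∈ d.line b c
  · exact ⟨a, ha, d.fix hn⟩
  · exact (d.count hbc ha).2 n hn

/-- A proper subspace meeting every line. -/
structure IsHyp (H : Set X) : Prop where
  proper : ∃ x, x ∉ H
  closed : ∀ {a b : X}, a ≠ b → a ∈ H → b ∈ H → d.line a b ⊆ H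
  meet : ∀ {a b : X}, a ≠ b → ∃ x ∈ d.line a b, x ∈ H

theorem fix_isHyp {a : X} {n : G} (hn : n ∈ d.N a) (hn1 : n ≠ 1) :
    d.IsHyp {x | n • x = x} where
  proper := by
    by_contra h
    push Not at h
    exact hn1 (eq_one_of_fix_all h)
  closed hab ha hb _ hx := d.line_fix hn hab ha hb hx
  meet hab := d.meets hab hn

theorem exists_other (a : X) (hX : Nontrivial X) : ∃ b c : X, b ≠ c ∧ a ∉ d.line b c := by
  obtain ⟨b, hb⟩ := exists_ne a
  obtain ⟨c, hc⟩ := d.exists_not_mem_line hb.symm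
  exact ⟨b, c, fun e => hc (e ▸ d.right_mem hb.symm), d.not_mem_left hb.symm hc⟩

variable {d}

theorem IsHyp.eq_univ {H F : Set X} (hH : d.IsHyp H) (hsub : H ⊆ F)
    (hF : ∀ {a b : X}, a ≠ b → a ∈ F → b ∈ F → d.line a b ⊆ F) {q : X} (hqF : q ∈ F) (hqH : q ∉ H)
    (x : X) : x ∈ F := by
  rcases eq_or_ne q x with rfl | hqx
  · exact hqF
  obtain ⟨z, hz, hzH⟩ := hH.meet hqx
  have hqz : q ≠ z := fun e => hqH (e ▸ hzH)
  exact hF hqz hqF (hsub hzH) (by rw [d.line_eq hqx (d.left_mem _ _) hz hqz]; exact d.right_mem hqx)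

theorem IsHyp.exists_ne [Nontrivial X] {H : Set X} (hH : d.IsHyp H) (a : X) :
    ∃ b ∈ H, b ≠ a := by
  obtain ⟨b, c, hbc, ha⟩ := d.exists_other a inferInstance
  obtain ⟨z, hz, hzH⟩ := hH.meet hbc
  exact ⟨z, hzH, fun e => ha (e ▸ hz)⟩

theorem IsHyp.meet_one {H : Set X} (hH : d.IsHyp H) {c q x : X} (hc : c ∈ H) (hq : q ∉ H)
    (hx : x ∈ d.line c q) (hxH : x ∈ H) : x = c := by
  by_contra hxc
  have hcq : c ≠ q := fun e => hq (e ▸ hc)
  refine hq (hH.closed (Ne.symm hxc) hc hxH ?_)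
  rw [d.line_eq_of_mem hx hxc]
  exact d.right_mem hcq

theorem IsHyp.inv {H : Set X} (hH : d.IsHyp H) {c p : X} (hc : c ∈ H) (hp : p ∈ H) {n : G}
    (hn : n ∈ d.N c) : n • p ∈ H := by
  rcases eq_or_ne c p with rfl | h
  · rwa [d.fix hn]
  · exact hH.closed h hc hp (d.line_inv hn (d.right_mem h))

end Cfsg.Agent.Spor.ONan.Hyp
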