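import Cfsg.Agent.Lib.Spor.ONan.Space

/-!
The translation group of a hyperplane.
-/

set_option autoImplicit false
set_option linter.unusedSectionVars false
set_option linter.style.haveILetI false

namespace Cfsg.Agent.Spor.ONan.Hyp

variable {G X : Type*} [Group G] [Finite G] [MulAction G X] [FaithfulSMul G X] [Finite X]
  [Nontrivial X]

/-- A non-trivial element of the family, giving a hyperplane. -/
structure Base (d : Hyp G X) where
  a0 : X
  m0 : G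
  mem : m0 ∈ d.N a0
  ne_one : m0 ≠ 1

namespace Base

variable {d : Hyp G X} (B : d.Base)

/-- The hyperplane. -/
def H : Set X := {x | B.m0 • x = x}

theorem isHyp : d.IsHyp B.H := d.fix_isHyp B.mem B.ne_one

theorem a0_mem : B.a0 ∈ B.H := d.fix B.mem

/-- Translations with centre `c`. -/
def T (c : X) : Subgroup G := d.N c ⊓ fixingSubgroup G B.H

theorem mem_T {c : X} {t : G} : t ∈ B.T c ↔ t ∈ d.N c ∧ ∀ p ∈ B.H, t • p = p := by
  rw [T, Subgroup.mem_inf, mem_fixingSubgroup_iff]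

theorem m0_mem : B.m0 ∈ B.T B.a0 := B.mem_T.mpr ⟨B.mem, fun _ h => h⟩

theorem semiregular {c q : X} {t : G} (ht : t ∈ B.T c) (hq : q ∉ B.H) (h : t • q = q) : t = 1 :=
  eq_one_of_fix_all fun x => B.isHyp.eq_univ (F := {x | t • x = x}) (fun p hp => (B.mem_T.mp ht).2 p hp)
    (fun hab ha hb _ hy => d.line_fix (B.mem_T.mp ht).1 hab ha hb hy) h hq x

theorem card_T_le {c : X} (hc : c ∈ B.H) {a b : X} (hab : a ≠ b) :
    Nat.card (B.T c) ≤ d.S a b := by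
  obtain ⟨q, hq⟩ := B.isHyp.proper
  have hcq : c ≠ q := fun e => hq (e ▸ hc)
  have h : ((fun g : G => g • q) '' (B.T c : Set G)).ncard = Nat.card (B.T c) := by
    rw [Set.InjOn.ncard_image fun t ht t' ht' (e : t • q = t' • q) =>
      (inv_mul_eq_one.mp (B.semiregular (mul_mem (inv_mem ht') ht) hq
        (by rw [mul_smul, e, inv_smul_smul]))).symm, ← Nat.card_coe_set_eq]
    rfl
  have h2 := Set.ncard_le_ncard ((Set.image_mono (show B.T c ≤ d.N c from inf_le_left)).trans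
    (d.orbit_subset hcq))
  rw [h, Set.ncard_sdiff_singleton_of_mem (d.left_mem c q), d.card_line hcq,
    d.S_eq hcq hab] at h2
  simpa using h2

theorem fix_comm_mem {b : X} (hb : b ∈ B.H) {n m : G} (hn : n ∈ d.N b)
    (hm : ∀ p ∈ B.H, m • p = p) : n * m * n⁻¹ ∈ fixingSubgroup G B.H := by
  rw [mem_fixingSubgroup_iff]
  intro p hp
  rw [mul_smul, mul_smul, hm _ (B.isHyp.inv hb hp (inv_mem hn)), smul_inv_smul]

/-- The commutators of one translation give all translations with another centre. -/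
theorem exists_comm {a b : X} (ha : a ∈ B.H) (hb : b ∈ B.H) (hab : a ≠ b) {m : G}
    (hm : m ∈ B.T a) (hm1 : m ≠ 1) :
    Nat.card (B.T b) = d.S b a ∧
      ∀ t ∈ B.T b, ∃ n ∈ d.N b, m * n * m⁻¹ * n⁻¹ = t := by
  obtain ⟨hmN, hmH⟩ := B.mem_T.mp hm
  have hmem : ∀ n ∈ d.N b, m * n * m⁻¹ * n⁻¹ ∈ B.T b := fun n hn => by
    refine Subgroup.mem_inf.mpr ⟨mul_mem (d.conj_self (hmH b hb) hn) (inv_mem hn), ?_⟩
    have h := mul_mem ((mem_fixingSubgroup_iff G).mpr hmH)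
      (inv_mem (B.fix_comm_mem hb hn hmH))
    rwa [show m * (n * m * n⁻¹)⁻¹ = m * n * m⁻¹ * n⁻¹ by group] at h
  let φ : d.N b →* B.T b := MonoidHom.mk' (fun n => ⟨_, hmem n.1 n.2⟩) (by
    rintro ⟨n, hn⟩ ⟨n', hn'⟩
    refine Subtype.ext ?_
    show m * (n * n') * m⁻¹ * (n * n')⁻¹ = m * n * m⁻¹ * n⁻¹ * (m * n' * m⁻¹ * n'⁻¹)
    have hk := d.comm (inv_mem hn) (hmem n' hn').1
    calc m * (n * n') * m⁻¹ * (n * n')⁻¹
        = m * n * m⁻¹ * ((m * n' * m⁻¹ * n'⁻¹) * n⁻¹) := by group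
      _ = m * n * m⁻¹ * (n⁻¹ * (m * n' * m⁻¹ * n'⁻¹)) := by rw [hk]
      _ = _ := by group)
  have hker : φ.ker = (d.A b a).subgroupOf (d.N b) := by
    ext n
    rw [MonoidHom.mem_ker, Subgroup.mem_subgroupOf, Subtype.ext_iff]
    show m * n.1 * m⁻¹ * n.1⁻¹ = 1 ↔ n.1 ∈ d.A b a
    rw [mul_inv_eq_one, mul_inv_eq_iff_eq_mul]
    exact ⟨fun h => ⟨n.2, d.fix_of_commute hmN hm1 h.symm⟩,
      fun h => (d.A_commute hab ⟨hmN, hmH b hb⟩ h).symm⟩
  have hr : Nat.card φ.range = d.S b a := by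
    rw [← Subgroup.index_ker, hker]
    rfl
  have htop : φ.range = ⊤ := Subgroup.eq_top_of_le_card _ (by rw [hr]; exact B.card_T_le hb hab.symm)
  refine ⟨by rw [← hr, htop, Subgroup.card_top], fun t ht => ?_⟩
  obtain ⟨n, hn⟩ : (⟨t, ht⟩ : B.T b) ∈ φ.range := htop ▸ Subgroup.mem_top _
  exact ⟨n.1, n.2, congrArg Subtype.val hn⟩

theorem card_T {c : X} (hc : c ∈ B.H) {a b : X} (hab : a ≠ b) :
    Nat.card (B.T c) = d.S a b := by
  rcases eq_or_ne c B.a0 with rfl | hca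
  · obtain ⟨e, he, hea⟩ := B.isHyp.exists_ne B.a0
    have h1 := (B.exists_comm B.a0_mem he hea.symm B.m0_mem B.ne_one).1
    have h2 := d.two_le_S hea
    haveI : Nontrivial (B.T e) := Finite.one_lt_card_iff_nontrivial.mp (by omega)
    obtain ⟨⟨m, hm⟩, hm1⟩ := exists_ne (1 : B.T e)
    rw [(B.exists_comm he B.a0_mem hea hm (fun h => hm1 (Subtype.ext h))).1]
    exact d.S_eq hea.symm hab
  · rw [(B.exists_comm B.a0_mem hc hca.symm B.m0_mem B.ne_one).1]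
    exact d.S_eq hca hab

theorem exists_ne_one {c : X} (hc : c ∈ B.H) : ∃ t ∈ B.T c, t ≠ 1 := by
  obtain ⟨e, -, he⟩ := B.isHyp.exists_ne c
  have h := d.two_le_S he
  rw [← B.card_T hc he] at h
  haveI : Nontrivial (B.T c) := Finite.one_lt_card_iff_nontrivial.mp (by omega)
  obtain ⟨⟨m, hm⟩, hm1⟩ := exists_ne (1 : B.T c)
  exact ⟨m, hm, fun e => hm1 (Subtype.ext e)⟩

theorem trans {c q x : X} (hc : c ∈ B.H) (hq : q ∉ B.H) (hx : x ∈ d.line c q) (hxc : x ≠ c) :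
    ∃ t ∈ B.T c, t • q = x := by
  have hcq : c ≠ q := fun e => hq (e ▸ hc)
  have h : (fun g : G => g • q) '' (B.T c : Set G) = d.line c q \ {c} := by
    refine Set.eq_of_subset_of_ncard_le
      ((Set.image_mono (show B.T c ≤ d.N c from inf_le_left)).trans (d.orbit_subset hcq)) ?_
    rw [Set.InjOn.ncard_image fun t ht t' ht' (e : t • q = t' • q) =>
      (inv_mul_eq_one.mp (B.semiregular (mul_mem (inv_mem ht') ht) hq
        (by rw [mul_smul, e, inv_smul_smul]))).symm, ← Nat.card_coe_set_eq (B.T c : Set G),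
      Set.ncard_sdiff_singleton_of_mem (d.left_mem c q), d.card_line hcq]
    have := B.card_T hc hcq
    show d.S c q + 1 - 1 ≤ Nat.card (B.T c)
    omega
  exact h.ge ⟨hx, hxc⟩

theorem centre_unique {c e : X} {t : G} (ht : t ∈ B.T c) (ht' : t ∈ B.T e) (h1 : t ≠ 1) : c = e := by
  by_contra h
  exact h1 (d.ti h ht.1 ht'.1)

theorem commute {b c : X} (hb : b ∈ B.H) (hc : c ∈ B.H) {t u : G} (ht : t ∈ B.T b)
    (hu : u ∈ B.T c) : t * u = u * t := by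
  obtain ⟨htN, htH⟩ := B.mem_T.mp ht
  obtain ⟨huN, huH⟩ := B.mem_T.mp hu
  rcases eq_or_ne b c with rfl | hbc
  · exact d.comm htN huN
  · exact (d.A_commute hbc ⟨htN, htH c hc⟩ ⟨huN, huH b hb⟩).symm

theorem prod_mem {b c : X} (hb : b ∈ B.H) (hc : c ∈ B.H) (hbc : b ≠ c) {t u : G}
    (ht : t ∈ B.T b) (hu : u ∈ B.T c) : ∃ e ∈ d.line b c, e ∈ B.H ∧ t * u ∈ B.T e := by
  rcases eq_or_ne t 1 with rfl | ht1
  · exact ⟨c, d.right_mem hbc, hc, by rwa [one_mul]⟩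
  obtain ⟨n, hn, hnu⟩ := (B.exists_comm hb hc hbc ht ht1).2 u⁻¹ (inv_mem hu)
  have he : n • b ∈ d.line b c := d.line_comm hbc ▸ d.line_inv hn (d.right_mem hbc.symm)
  refine ⟨n • b, he, B.isHyp.inv hc hb hn, ?_⟩
  have : t * u = n * t * n⁻¹ := by
    rw [B.commute hb hc ht hu, ← inv_inv u, ← hnu]
    group
  rw [this]
  exact ⟨d.conj n ht.1, B.fix_comm_mem hc hn (B.mem_T.mp ht).2⟩

theorem sum_mem {a b e : X} (ha : a ∈ B.H) (hb : b ∈ B.H) (hab : a ≠ b) (he : e ∈ d.line a b)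
    {t : G} (ht : t ∈ B.T e) : ∃ u ∈ B.T a, ∃ w ∈ B.T b, u * w = t := by
  rcases eq_or_ne e a with rfl | hea
  · exact ⟨t, ht, 1, one_mem _, mul_one t⟩
  obtain ⟨n, hn, hne⟩ := d.line_trans hab he hea
  obtain ⟨htN, htH⟩ := B.mem_T.mp ht
  have hwH : n⁻¹ * t * n⁻¹⁻¹ ∈ fixingSubgroup G B.H := B.fix_comm_mem ha (inv_mem hn) htH
  have hwN : n⁻¹ * t * n⁻¹⁻¹ ∈ d.N b := by
    have := d.conj n⁻¹ htN
    rwa [← hne, inv_smul_smul] at this
  set w := n⁻¹ * t * n⁻¹⁻¹ with hw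
  refine ⟨t * w⁻¹, Subgroup.mem_inf.mpr ⟨?_, mul_mem ((mem_fixingSubgroup_iff G).mpr htH) (inv_mem hwH)⟩,
    w, ⟨hwN, hwH⟩, by group⟩
  have hwa : w • a = a := (mem_fixingSubgroup_iff G).mp hwH a ha
  have h1 : w * n⁻¹ * w⁻¹ ∈ d.N a := d.conj_self hwa (inv_mem hn)
  have h2 : t * w⁻¹ = n * (w * n⁻¹ * w⁻¹) := by
    have : t = n * w * n⁻¹ := by rw [hw]; group
    rw [this]
    group
  show t * w⁻¹ ∈ d.N a
  rw [h2]
  exact mul_mem hn h1

/-- All translations. -/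
def group : Subgroup G where
  carrier := {g | ∃ c ∈ B.H, g ∈ B.T c}
  one_mem' := ⟨B.a0, B.a0_mem, one_mem _⟩
  inv_mem' := fun ⟨c, hc, h⟩ => ⟨c, hc, inv_mem h⟩
  mul_mem' := by
    rintro t u ⟨b, hb, ht⟩ ⟨c, hc, hu⟩
    rcases eq_or_ne b c with rfl | hbc
    · exact ⟨b, hb, mul_mem ht hu⟩
    · obtain ⟨e, -, heH, he⟩ := B.prod_mem hb hc hbc ht hu
      exact ⟨e, heH, he⟩

theorem mem_group {g : G} : g ∈ B.group ↔ ∃ c ∈ B.H, g ∈ B.T c := Iff.rfl

theorem group_fix {g : G} (hg : g ∈ B.group) {p : X} (hp : p ∈ B.H) : g • p = p := by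
  obtain ⟨c, -, h⟩ := hg
  exact (B.mem_T.mp h).2 p hp

theorem group_semiregular {g : G} (hg : g ∈ B.group) {q : X} (hq : q ∉ B.H) (h : g • q = q) :
    g = 1 := by
  obtain ⟨c, -, hc⟩ := hg
  exact B.semiregular hc hq h

theorem group_trans {q x : X} (hq : q ∉ B.H) (hx : x ∉ B.H) : ∃ g ∈ B.group, g • q = x := by
  rcases eq_or_ne q x with rfl | hqx
  · exact ⟨1, one_mem _, one_smul _ _⟩
  obtain ⟨c, hc, hcH⟩ := B.isHyp.meet hqx
  have hcq : c ≠ q := fun e => hq (e ▸ hcH)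
  have hxc : x ≠ c := fun e => hx (e ▸ hcH)
  have hl : d.line c q = d.line q x := d.line_eq hqx hc (d.left_mem _ _) hcq
  obtain ⟨t, ht, htx⟩ := B.trans hcH hq (hl ▸ d.right_mem hqx) hxc
  exact ⟨t, ⟨c, hcH, ht⟩, htx⟩

end Base

end Cfsg.Agent.Spor.ONan.Hyp
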